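import Groth.Agent.NormPlace.Congr

/-!
# Extensions with an affine Galois action: a cyclic subextension detecting places of degree one
-/

set_option autoImplicit false

noncomputable section

open NumberField IsDedekindDomain
open scoped IntermediateField Pointwise

universe u

namespace Groth.Agent.NormPlace

variable {K L N : Type u} [Field K] [NumberField K] [Field L] [NumberField L] [Field N] [NumberField N]
  [Algebra K L] [Algebra K N]

set_option maxHeartbeats 1000000 in
/-- If the automorphisms of a Galois `N` act affinely and faithfully on the embeddings of `L`, then outside the places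
ramified in `L` either `L` has a place of degree one or the fixed field of the translations splits. -/
theorem exists_translation_field [IsGalois K N] (p : ℕ) [Fact p.Prime] (e : (L →ₐ[K] N) ≃ ZMod p)
    (haff : ∀ h : N ≃ₐ[K] N, ∃ a b : ZMod p, a ≠ 0 ∧ ∀ φ : L →ₐ[K] N, e (h.toAlgHom.comp φ) = a * e φ + b)
    (hfaith : ∀ h : N ≃ₐ[K] N, (∀ φ : L →ₐ[K] N, h.toAlgHom.comp φ = φ) → h = 1)
    (hnab : IsGalois K L → ∃ σ τ : L ≃ₐ[K] L, σ * τ ≠ τ * σ) :
    ∃ E : IntermediateField K N, IsGalois K E ∧ IsCyclic (E ≃ₐ[K] E) ∧ 1 < Module.finrank K E ∧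
      ∀ w : HeightOneSpectrum (NumberField.RingOfIntegers K),
        (∀ Q : HeightOneSpectrum (NumberField.RingOfIntegers L), below K Q = w →
          Q.asIdeal.ramificationIdx (NumberField.RingOfIntegers K) = 1) →
        Nonempty (E →ₐ[K] w.adicCompletion K) ∨ Nonempty (L →ₐ[K] w.adicCompletion K) := by
  classical
  have : FiniteDimensional K N := Module.Finite.of_restrictScalars_finite ℚ K N
  have : FiniteDimensional K L := Module.Finite.of_restrictScalars_finite ℚ K L
  choose A B hA hAB using haff
  let φ0 := e.symm 0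
  let φ1 := e.symm 1
  have hB : ∀ h, B h = e (h.toAlgHom.comp φ0) := fun h => by
    rw [hAB, show e φ0 = 0 from e.apply_symm_apply 0, mul_zero, zero_add]
  have hA' : ∀ h, A h = e (h.toAlgHom.comp φ1) - e (h.toAlgHom.comp φ0) := fun h => by
    rw [hAB, hAB, show e φ0 = 0 from e.apply_symm_apply 0, show e φ1 = 1 from e.apply_symm_apply 1]
    ring
  have hmul : ∀ g h : N ≃ₐ[K] N, A (g * h) = A g * A h ∧ B (g * h) = A g * B h + B g := fun g h => by
    have hc : ∀ φ : L →ₐ[K] N, (g * h).toAlgHom.comp φ = g.toAlgHom.comp (h.toAlgHom.comp φ) := fun φ => rfl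
    constructor
    · rw [hA', hc, hc, hAB g, hAB g (h.toAlgHom.comp φ0), hA' h]
      ring
    · rw [hB, hc, hAB g, ← hB h]
  have hA1 : A 1 = 1 := by
    have := (hmul 1 1).1
    rw [one_mul] at this
    exact mul_left_cancel₀ (hA 1) (by rw [mul_one]; exact this.symm)
  let χ : (N ≃ₐ[K] N) →* (ZMod p)ˣ :=
    { toFun := fun h => Units.mk0 (A h) (hA h)
      map_one' := Units.ext hA1
      map_mul' := fun g h => Units.ext (hmul g h).1 }
  have hker : ∀ h, h ∈ χ.ker ↔ A h = 1 := fun h => by
    rw [MonoidHom.mem_ker, Units.ext_iff]; rfl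
  have hext : ∀ g h : N ≃ₐ[K] N, A g = A h → B g = B h → g = h := fun g h h1 h2 => by
    have h3 : h⁻¹ * g = 1 := hfaith _ fun φ => by
      show h⁻¹.toAlgHom.comp (g.toAlgHom.comp φ) = φ
      have h4 : g.toAlgHom.comp φ = h.toAlgHom.comp φ := e.injective (by rw [hAB, hAB, h1, h2])
      rw [h4]
      ext x
      exact h.symm_apply_apply _
    exact (inv_mul_eq_one.1 h3).symm
  let E : IntermediateField K N := IntermediateField.fixedField χ.ker
  refine ⟨E, inferInstance, ?_, ?_, ?_⟩
  · have hcyc : IsCyclic ((N ≃ₐ[K] N) ⧸ χ.ker) :=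
      isCyclic_of_injective (QuotientGroup.kerLift χ) (QuotientGroup.kerLift_injective χ)
    exact isCyclic_of_injective (IsGalois.normalAutEquivQuotient χ.ker).symm.toMonoidHom
      (IsGalois.normalAutEquivQuotient χ.ker).symm.injective
  · -- the translations are not everything
    refine lt_of_le_of_ne Module.finrank_pos fun h1 => ?_
    have hbot : E = ⊥ := IntermediateField.finrank_eq_one_iff.1 h1.symm
    have htop : χ.ker = ⊤ := by
      rw [← IntermediateField.fixingSubgroup_fixedField χ.ker, show IntermediateField.fixedField χ.ker = ⊥ from hbot,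
        IntermediateField.fixingSubgroup_bot]
    have hA1' : ∀ h, A h = 1 := fun h => (hker h).1 (htop ▸ Subgroup.mem_top h)
    -- hence `φ0` is bijective
    have hrange : φ0.fieldRange = ⊤ := by
      have hfix : φ0.fieldRange.fixingSubgroup = ⊥ := by
        refine (Subgroup.eq_bot_iff_forall _).2 fun h hh => hext h 1 ((hA1' h).trans hA1.symm) ?_
        have hh' : h.toAlgHom.comp φ0 = φ0 := AlgHom.ext fun x =>
          (IntermediateField.mem_fixingSubgroup_iff _ h).1 hh _ ⟨x, rfl⟩
        rw [hB, hB, hh', show (1 : N ≃ₐ[K] N).toAlgHom.comp φ0 = φ0 from rfl]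
      rw [← IsGalois.fixedField_fixingSubgroup φ0.fieldRange, hfix, IntermediateField.fixedField_bot]
    let eLN : L ≃ₐ[K] N := AlgEquiv.ofBijective φ0 ⟨φ0.injective, fun y => by
      have hy : y ∈ φ0.fieldRange := by rw [hrange]; trivial
      exact hy⟩
    obtain ⟨σ, τ, hne⟩ := hnab (IsGalois.of_algEquiv eLN.symm)
    refine hne ((AlgEquiv.autCongr eLN).injective ?_)
    rw [map_mul, map_mul]
    refine hext _ _ ((hA1' _).trans (hA1' _).symm) ?_
    rw [(hmul _ _).2, (hmul _ _).2, hA1', hA1', one_mul, one_mul, add_comm]
  intro w hram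
  obtain ⟨P, hP⟩ := exists_above (K := N) w
  have hinert : ∀ g h : N ≃ₐ[K] N,
      (∀ x : NumberField.RingOfIntegers N, P.valuation N (g x - h x) < 1) → g = h := by
    intro g h hgh
    have h3 : ∀ φ : L →ₐ[K] N, g.toAlgHom.comp φ = h.toAlgHom.comp φ := fun φ =>
      eq_of_congr w hram P hP _ _ fun x => hgh (RingOfIntegers.mapRingHom φ.toRingHom x)
    refine hext g h ?_ ?_
    · rw [hA', hA', h3, h3]
    · rw [hB, hB, h3]
  obtain ⟨σ, hσ⟩ := exists_frobenius (K := K) P
  have hw : below K P = w := hP
  rw [hw] at hσ
  let q := Nat.card (NumberField.RingOfIntegers K ⧸ w.asIdeal)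
  have hres : ∀ x : NumberField.RingOfIntegers N, P.valuation N (σ x - x) < 1 →
      ∃ r : NumberField.RingOfIntegers K, P.valuation N ((x : N) - algebraMap K N r) < 1 := fun x hx => by
    refine exists_congr_base P x ?_
    rw [hw, ← sub_sub_sub_cancel_left _ _ (σ (x : N))]
    exact Valuation.map_sub_lt _ hx (hσ x)
  by_cases hAσ : A σ = 1
  · left
    have : FiniteDimensional K E := inferInstance
    have : CharZero E := charZero_of_injective_algebraMap (algebraMap K E).injective
    have : NumberField E := { to_finiteDimensional := Module.Finite.trans K E }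
    have hfixE : ∀ h : N ≃ₐ[K] N, A h = 1 → ∀ x ∈ E, h x = x := fun h hh x hx =>
      (IntermediateField.mem_fixedField_iff _ x).1 hx h ((hker h).2 hh)
    have hsplit : ∀ z : E, ((minpoly K z).map (algebraMap K N)).Splits := fun z => by
      rw [← minpoly.algHom_eq E.val E.val.injective z]
      exact Normal.splits inferInstance _
    have hresE : ∀ x : NumberField.RingOfIntegers E, ∃ r : NumberField.RingOfIntegers K,
        P.valuation N (E.val x - algebraMap K N r) < 1 := fun x =>
      hres (RingOfIntegers.mapRingHom E.val.toRingHom x) (by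
        show P.valuation N (σ (E.val (x : E)) - E.val (x : E)) < 1
        rw [show E.val (x : E) = ((x : E) : N) from rfl, hfixE σ hAσ _ (x : E).2, sub_self, map_zero]
        exact zero_lt_one)
    refine exists_embedding_completion w P hP hsplit E.val hresE fun φ hφ => ?_
    -- `φ` is congruent to the inclusion
    have hcong : ∀ x : NumberField.RingOfIntegers E, P.valuation N (φ x - E.val x) < 1 := fun x => by
      obtain ⟨r, hr⟩ := hresE x
      have h1 : P.valuation N (φ x - algebraMap K N r) < 1 := by
        have h := hφ (x - algebraMap (NumberField.RingOfIntegers K) (NumberField.RingOfIntegers E) r) (by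
          have hcoe : ((x - algebraMap (NumberField.RingOfIntegers K) (NumberField.RingOfIntegers E) r :
              NumberField.RingOfIntegers E) : E) = (x : E) - algebraMap K E r := rfl
          rw [hcoe, map_sub, AlgHom.commutes]; exact hr)
        have hcoe : ((x - algebraMap (NumberField.RingOfIntegers K) (NumberField.RingOfIntegers E) r :
              NumberField.RingOfIntegers E) : E) = (x : E) - algebraMap K E r := rfl
        rwa [hcoe, map_sub, AlgHom.commutes] at h
      rw [← sub_sub_sub_cancel_right _ _ (algebraMap K N r)]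
      exact Valuation.map_sub_lt _ h1 hr
    let τ : N ≃ₐ[K] N := AlgEquiv.ofBijective (φ.liftNormal N) (Algebra.IsAlgebraic.algHom_bijective _)
    have hτ : ∀ x : E, τ x = φ x := fun x => φ.liftNormal_commutes N x
    obtain ⟨Q, -, hQ⟩ := exists_comap w P hP τ.toAlgHom
    -- transitivity over `E`
    have : IsGalois E N := IsGalois.tower_top_of_isGalois K E N
    have := isInvariant_ringOfIntegers (K := E) (M := N)
    have := smulCommClass_ringOfIntegers (K := E) (M := N)
    have hunder : P.asIdeal.under (NumberField.RingOfIntegers E) = Q.asIdeal.under (NumberField.RingOfIntegers E) := by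
      refine Ideal.ext fun x => ?_
      rw [Ideal.under, Ideal.under, Ideal.mem_comap, Ideal.mem_comap, hQ, ← P.valuation_lt_one_iff_mem (K := N)]
      show P.valuation N (E.val (x : E)) < 1 ↔ P.valuation N (τ ((x : E) : N)) < 1
      rw [hτ]
      constructor
      · intro h
        have h' := Valuation.map_add_lt _ (hcong x) h
        rwa [sub_add_cancel] at h'
      · intro h
        have h' := Valuation.map_sub_lt _ h (hcong x)
        rwa [sub_sub_cancel] at h'
    obtain ⟨g, hg⟩ := Algebra.IsInvariant.exists_smul_of_under_eq (NumberField.RingOfIntegers E)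
      (NumberField.RingOfIntegers N) (N ≃ₐ[E] N) P.asIdeal Q.asIdeal hunder
    let γ : N ≃ₐ[K] N := τ * g.restrictScalars K
    have hγP : ∀ x : NumberField.RingOfIntegers N, P.valuation N (x : N) < 1 → P.valuation N (γ x) < 1 := fun x hx => by
      have hmem : g • x ∈ Q.asIdeal :=
        hg ▸ Ideal.smul_mem_pointwise_smul g x P.asIdeal ((P.valuation_lt_one_iff_mem (K := N) x).1 hx)
      exact (hQ _).1 hmem
    have hγE : ∀ x : E, γ x = φ x := fun x => by
      show τ (g ((x : E) : N)) = φ x
      rw [show g ((x : E) : N) = (x : N) from g.commutes x, hτ]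
    refine AlgHom.ext fun x => ?_
    rw [← hγE]
    refine hfixE γ ?_ _ x.2
    by_cases hBσ : B σ = 0
    · -- the residue field is the base residue field
      have hσ1 : σ = 1 := hext σ 1 (hAσ.trans hA1.symm) (by
        rw [hBσ, hB, show (1 : N ≃ₐ[K] N).toAlgHom.comp φ0 = φ0 from rfl, show e φ0 = 0 from e.apply_symm_apply 0])
      have hγ1 : γ = 1 := hinert γ 1 fun x => by
        obtain ⟨r, hr⟩ := hres x (by rw [hσ1]; simp)
        have h1 := hγP (x - algebraMap (NumberField.RingOfIntegers K) (NumberField.RingOfIntegers N) r) hr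
        have hcoe : ((x - algebraMap (NumberField.RingOfIntegers K) (NumberField.RingOfIntegers N) r :
            NumberField.RingOfIntegers N) : N) = (x : N) - algebraMap K N r := rfl
        rw [hcoe, map_sub, AlgEquiv.commutes] at h1
        rw [AlgEquiv.one_apply, ← sub_sub_sub_cancel_right _ _ (algebraMap K N r)]
        exact Valuation.map_sub_lt _ h1 hr
      rw [hγ1, hA1]
    · have hcomm : γ * σ = σ * γ := hinert _ _ fun x => by
        show P.valuation N (γ (σ x) - σ (γ x)) < 1
        have h1 : P.valuation N (γ (σ x) - (γ x) ^ q) < 1 := by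
          have h := hγP (RingOfIntegers.mapRingHom σ.toAlgHom.toRingHom x - x ^ q) (by simpa [q] using hσ x)
          simpa [map_sub, map_pow] using h
        have h2 := hσ (RingOfIntegers.mapRingHom γ.toAlgHom.toRingHom x)
        rw [← sub_sub_sub_cancel_right _ _ ((γ x) ^ q)]
        exact Valuation.map_sub_lt _ h1 h2
      have h := congr_arg B hcomm
      rw [(hmul γ σ).2, (hmul σ γ).2, hAσ, one_mul] at h
      exact mul_right_cancel₀ hBσ (by rw [one_mul]; linear_combination h)
  · right
    let φ₀ := e.symm (B σ / (1 - A σ))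
    have hfix : σ.toAlgHom.comp φ₀ = φ₀ := e.injective (by
      rw [hAB, show e φ₀ = B σ / (1 - A σ) from e.apply_symm_apply _]
      have hne : 1 - A σ ≠ 0 := sub_ne_zero.2 (Ne.symm hAσ)
      field_simp
      ring)
    have hsplit : ∀ z : L, ((minpoly K z).map (algebraMap K N)).Splits := fun z => by
      rw [← minpoly.algHom_eq φ0 φ0.injective z]
      exact Normal.splits inferInstance _
    have hres' : ∀ x : NumberField.RingOfIntegers L, ∃ r : NumberField.RingOfIntegers K,
        P.valuation N (φ₀ x - algebraMap K N r) < 1 := fun x =>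
      hres (RingOfIntegers.mapRingHom φ₀.toRingHom x) (by
        show P.valuation N (σ.toAlgHom.comp φ₀ (x : L) - φ₀ (x : L)) < 1
        rw [hfix, sub_self, map_zero]
        exact zero_lt_one)
    refine exists_embedding_completion w P hP hsplit φ₀ hres' fun φ hφ => ?_
    refine eq_of_congr w hram P hP φ φ₀ fun x => ?_
    obtain ⟨r, hr⟩ := hres' x
    have hcoe : ((x - algebraMap (NumberField.RingOfIntegers K) (NumberField.RingOfIntegers L) r :
        NumberField.RingOfIntegers L) : L) = (x : L) - algebraMap K L r := rfl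
    have h1 := hφ (x - algebraMap (NumberField.RingOfIntegers K) (NumberField.RingOfIntegers L) r) (by
      rw [hcoe, map_sub, AlgHom.commutes]; exact hr)
    rw [hcoe, map_sub, AlgHom.commutes] at h1
    rw [← sub_sub_sub_cancel_right _ _ (algebraMap K N r)]
    exact Valuation.map_sub_lt _ h1 hr

end Groth.Agent.NormPlace
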