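import Mathlib

/-!
# Approximating norms in a tensor algebra by norms of global elements
-/

set_option autoImplicit false

noncomputable section

open scoped TensorProduct

universe u

namespace Groth.Agent.NormPlace

variable {k F L K : Type u} [Field k] [Field F] [Field L] [Field K] [Algebra k F] [Algebra k L] [Algebra F L]
  [IsScalarTower k F L] [Algebra k K]

/-- The extension of a linear form to scalars `K`. -/
def formK (K : Type u) [Field K] [Algebra k K] (f : F →ₗ[k] k) : K ⊗[k] F →ₗ[K] K :=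
  (Algebra.TensorProduct.rid k K K).toLinearEquiv.toLinearMap ∘ₗ f.baseChange K

theorem formK_tmul (f : F →ₗ[k] k) (c : K) (y : F) : formK K f (c ⊗ₜ[k] y) = algebraMap k K (f y) * c := by
  simp [formK, Algebra.smul_def]

/-- A basis of `L` over `F` gives a basis of `K ⊗ L` over `K ⊗ F`, and norms of pure tensors are computed in `F`. -/
theorem exists_tensor_basis (K : Type u) [Field K] [Algebra k K] [FiniteDimensional k L] :
    letI := (Algebra.TensorProduct.map (AlgHom.id k K) (IsScalarTower.toAlgHom k F L)).toRingHom.toAlgebra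
    ∃ _bA : Module.Basis (Fin (Module.finrank F L)) (K ⊗[k] F) (K ⊗[k] L),
      ∀ y : L, Algebra.norm (K ⊗[k] F) ((1 : K) ⊗ₜ[k] y) = (1 : K) ⊗ₜ[k] Algebra.norm F y := by
  classical
  let : Algebra (K ⊗[k] F) (K ⊗[k] L) :=
    (Algebra.TensorProduct.map (AlgHom.id k K) (IsScalarTower.toAlgHom k F L)).toRingHom.toAlgebra
  have halg : ∀ (p : K) (q : F), algebraMap (K ⊗[k] F) (K ⊗[k] L) (p ⊗ₜ q) = p ⊗ₜ algebraMap F L q :=
    fun p q => rfl
  have : FiniteDimensional F L := Module.Finite.of_restrictScalars_finite k F L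
  let β := Module.finBasis F L
  let e₁ : K ⊗[k] L ≃ₗ[K] (Fin (Module.finrank F L) → K ⊗[k] F) :=
    ((β.equivFun.restrictScalars k).baseChange k K _ _) ≪≫ₗ TensorProduct.piRight k K K _
  have he₁ : ∀ (p : K) (l : L), e₁ (p ⊗ₜ l) = fun i => p ⊗ₜ β.repr l i := fun p l => by
    ext i
    simp [e₁]
  have hlin : ∀ (a : K ⊗[k] F) (w : K ⊗[k] L), e₁ (a • w) = a • e₁ w := by
    intro a w
    induction a with
    | zero => rw [zero_smul, zero_smul, map_zero]
    | add a a' ha ha' => rw [add_smul, add_smul, map_add, ha, ha']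
    | tmul p q =>
      induction w with
      | zero => rw [smul_zero, map_zero, smul_zero]
      | add w w' hw hw' => rw [smul_add, map_add, hw, hw', map_add, smul_add]
      | tmul p' l =>
        rw [Algebra.smul_def, halg, Algebra.TensorProduct.tmul_mul_tmul, he₁, he₁]
        ext i
        rw [Pi.smul_apply, smul_eq_mul, Algebra.TensorProduct.tmul_mul_tmul, ← Algebra.smul_def q, map_smul,
          Finsupp.smul_apply, smul_eq_mul]
  let e : K ⊗[k] L ≃ₗ[K ⊗[k] F] (Fin (Module.finrank F L) → K ⊗[k] F) :=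
    { toLinearMap := { toFun := e₁, map_add' := map_add e₁, map_smul' := hlin }
      invFun := e₁.symm
      left_inv := e₁.symm_apply_apply
      right_inv := e₁.apply_symm_apply }
  let bA := Module.Basis.ofEquivFun e
  have hbA : ∀ i, bA i = (1 : K) ⊗ₜ[k] β i := fun i => by
    rw [Module.Basis.coe_ofEquivFun]
    show e₁.symm (Pi.single i 1) = _
    rw [LinearEquiv.symm_apply_eq, he₁]
    ext j
    rw [β.repr_self, Finsupp.single_apply]
    rcases eq_or_ne i j with rfl | hij
    · simp [Algebra.TensorProduct.one_def]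
    · simp [hij]
  have hnorm : ∀ y : L, Algebra.norm (K ⊗[k] F) ((1 : K) ⊗ₜ[k] y) = (1 : K) ⊗ₜ[k] Algebra.norm F y := fun y => by
    rw [Algebra.norm_eq_matrix_det bA, Algebra.norm_eq_matrix_det β,
      show ((1 : K) ⊗ₜ[k] (Algebra.leftMulMatrix β y).det) =
        (Algebra.TensorProduct.includeRight : F →ₐ[k] K ⊗[k] F) (Algebra.leftMulMatrix β y).det from rfl,
      AlgHom.map_det]
    congr 1
    ext i j
    rw [AlgHom.mapMatrix_apply, Matrix.map_apply, Algebra.leftMulMatrix_eq_repr_mul,
      Algebra.leftMulMatrix_eq_repr_mul, hbA, Algebra.TensorProduct.tmul_mul_tmul, one_mul,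
      Module.Basis.ofEquivFun_repr_apply]
    show e₁ _ i = _
    rw [he₁]
    rfl
  exact ⟨bA, hnorm⟩

variable [TopologicalSpace K] [IsTopologicalRing K] [FiniteDimensional k F] [FiniteDimensional k L]

/-- A norm from the tensor algebra is approximated, in the values of linear forms, by norms of elements of `L`. -/
theorem exists_approx (hd : DenseRange (algebraMap k K)) [T1Space K] (b : F) (hb : b ≠ 0) (z : K ⊗[k] F)
    (hz : letI := (Algebra.TensorProduct.map (AlgHom.id k K) (IsScalarTower.toAlgHom k F L)).toRingHom.toAlgebra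
      ∃ x : K ⊗[k] L, IsUnit x ∧ Algebra.norm (K ⊗[k] F) x = (1 : K) ⊗ₜ[k] b * z)
    {ι : Type} [Finite ι] (f : ι → F →ₗ[k] k) (O : ι → Set K)
    (hO : ∀ j, IsOpen (O j) ∧ formK K (f j) z ∈ O j) :
    ∃ x : L, x ≠ 0 ∧ ∀ j, algebraMap k K (f j (Algebra.norm F x / b)) ∈ O j := by
  classical
  let : Algebra (K ⊗[k] F) (K ⊗[k] L) :=
    (Algebra.TensorProduct.map (AlgHom.id k K) (IsScalarTower.toAlgHom k F L)).toRingHom.toAlgebra
  obtain ⟨x, hx, hxz⟩ := hz
  have halg : ∀ (p : K) (q : F), algebraMap (K ⊗[k] F) (K ⊗[k] L) (p ⊗ₜ q) = p ⊗ₜ algebraMap F L q :=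
    fun p q => rfl
  obtain ⟨bA, hnorm⟩ := exists_tensor_basis (k := k) (F := F) (L := L) K
  -- the map `c ↦` (norm of the element with coordinates `c`)
  let B := Module.finBasis k L
  let : TopologicalSpace (K ⊗[k] F) := moduleTopology K (K ⊗[k] F)
  have : IsModuleTopology K (K ⊗[k] F) := ⟨rfl⟩
  have : IsTopologicalRing (K ⊗[k] F) := IsModuleTopology.isTopologicalRing K _
  let G : (Fin (Module.finrank k L) → K) → K ⊗[k] F := fun c =>
    Algebra.norm (K ⊗[k] F) (∑ j, (c j ⊗ₜ[k] (1 : F)) • ((1 : K) ⊗ₜ[k] B j))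
  have hG : Continuous G := by
    simp only [G, Algebra.norm_eq_matrix_det bA, map_sum, map_smul]
    refine Continuous.matrix_det (continuous_finsetSum _ fun j _ => ?_)
    refine Continuous.smul (f := fun c : Fin (Module.finrank k L) → K => c j ⊗ₜ[k] (1 : F)) ?_ continuous_const
    have hl : Continuous fun t : K => t ⊗ₜ[k] (1 : F) := by
      have h := IsModuleTopology.continuous_of_linearMap (R := K)
        ((LinearMap.id : K →ₗ[K] K).smulRight ((1 : K) ⊗ₜ[k] (1 : F)))
      simpa [TensorProduct.smul_tmul'] using h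
    exact hl.comp (continuous_apply j)
  have hsum : ∀ c : Fin (Module.finrank k L) → K,
      (∑ j, (c j ⊗ₜ[k] (1 : F)) • ((1 : K) ⊗ₜ[k] B j)) = ∑ j, c j • (B.baseChange K) j := fun c =>
    Finset.sum_congr rfl fun j _ => by
      rw [Algebra.smul_def, halg, map_one, Algebra.TensorProduct.tmul_mul_tmul, Module.Basis.baseChange_apply,
        TensorProduct.smul_tmul', smul_eq_mul, one_mul, mul_one]
  have hrat : ∀ c : Fin (Module.finrank k L) → k,
      G (fun j => algebraMap k K (c j)) = (1 : K) ⊗ₜ[k] Algebra.norm F (∑ j, c j • B j) := fun c => by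
    rw [← hnorm]
    simp only [G, hsum]
    rw [TensorProduct.tmul_sum]
    congr 1
    refine Finset.sum_congr rfl fun j _ => ?_
    rw [Module.Basis.baseChange_apply, TensorProduct.smul_tmul', TensorProduct.tmul_smul, TensorProduct.smul_tmul',
      smul_eq_mul, mul_one, Algebra.smul_def (c j) (1 : K), mul_one]
  let c₀ : Fin (Module.finrank k L) → K := fun j => (B.baseChange K).repr x j
  have hc₀ : c₀ ≠ 0 := fun h => by
    have : Nontrivial (K ⊗[k] L) := by
      have : Nonempty (Fin (Module.finrank k L)) := ⟨⟨0, Module.finrank_pos⟩⟩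
      exact (B.baseChange K).repr.toEquiv.nontrivial
    refine hx.ne_zero ((B.baseChange K).repr.injective (Finsupp.ext fun j => ?_))
    simpa using congr_fun h j
  have hG₀ : ∀ j, formK K (f j) ((1 : K) ⊗ₜ[k] b⁻¹ * G c₀) ∈ O j := fun j => by
    simp only [G, hsum, c₀]
    rw [(B.baseChange K).sum_repr x, hxz, ← mul_assoc, Algebra.TensorProduct.tmul_mul_tmul, inv_mul_cancel₀ hb,
      one_mul, ← Algebra.TensorProduct.one_def, one_mul]
    exact (hO j).2
  have hopen : IsOpen ((⋂ j, (fun c => formK K (f j) ((1 : K) ⊗ₜ[k] b⁻¹ * G c)) ⁻¹' O j) ∩ {0}ᶜ) := by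
    refine IsOpen.inter (isOpen_iInter_of_finite fun j => (hO j).1.preimage ?_) isOpen_compl_singleton
    exact (IsModuleTopology.continuous_of_linearMap (formK K (f j))).comp (continuous_const.mul hG)
  obtain ⟨c, hc1, hc2⟩ := (DenseRange.piMap fun _ => hd).exists_mem_open hopen
    ⟨c₀, Set.mem_iInter.2 hG₀, hc₀⟩
  refine ⟨∑ j, c j • B j, fun h0 => hc2 ?_, fun j => ?_⟩
  · have hzero : c = 0 := funext fun j => by
      have h := congr_arg (fun y => B.repr y j) h0
      simpa [Finsupp.single_apply] using h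
    exact funext fun j => by simp [Pi.map_apply, hzero]
  · have h := Set.mem_iInter.1 hc1 j
    simp only [Set.mem_preimage] at h
    rw [show (Pi.map (fun _ => ⇑(algebraMap k K)) c) = fun j => algebraMap k K (c j) from rfl, hrat,
      Algebra.TensorProduct.tmul_mul_tmul, one_mul, formK_tmul, mul_one, mul_comm (b⁻¹)] at h
    rwa [div_eq_mul_inv]

end Groth.Agent.NormPlace
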