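import Mathlib

/-!
# Linear forms on an extension are bounded by the places above
-/

set_option autoImplicit false

noncomputable section

open NumberField IsDedekindDomain

universe u

namespace Groth.Agent.NormPlace

variable {k K : Type u} [Field k] [NumberField k] [Field K] [NumberField K] [Algebra k K]

local notation "Plc" => HeightOneSpectrum (NumberField.RingOfIntegers k)
local notation "Plc'" => HeightOneSpectrum (NumberField.RingOfIntegers K)

/-- The place below. -/
abbrev below (k : Type u) [Field k] [NumberField k] {K : Type u} [Field K] [NumberField K] [Algebra k K]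
    (W : HeightOneSpectrum (NumberField.RingOfIntegers K)) :
    HeightOneSpectrum (NumberField.RingOfIntegers k) :=
  W.under (NumberField.RingOfIntegers k)

theorem liesOver_iff (W : Plc') (v : Plc) : W.asIdeal.LiesOver v.asIdeal ↔ below k W = v := by
  constructor
  · intro h
    exact HeightOneSpectrum.ext h.over.symm
  · rintro rfl
    exact ⟨rfl⟩

theorem finite_above (v : Plc) : {W : Plc' | below k W = v}.Finite := by
  have := v.isMaximal
  refine ((IsDedekindDomain.primesOver_finite (B := NumberField.RingOfIntegers K) v.asIdeal).preimage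
    (fun _ _ _ _ h => HeightOneSpectrum.ext h)).subset fun W hW => ?_
  exact ⟨W.isPrime, (liesOver_iff W v).2 hW⟩

theorem finite_above_finset (S : Finset Plc) : {W : Plc' | below k W ∈ S}.Finite :=
  (S.finite_toSet.biUnion fun v _ => finite_above (K := K) v).subset fun W hW => by
    simp only [Set.mem_iUnion]
    exact ⟨below k W, hW, rfl⟩

theorem exists_above (v : Plc) : ∃ W : Plc', below k W = v := by
  have := v.isMaximal
  obtain ⟨Q, hQ, hQ'⟩ := Ideal.exists_maximal_ideal_liesOver_of_isIntegral
    (S := NumberField.RingOfIntegers K) v.asIdeal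
  exact ⟨⟨Q, hQ.isPrime, Ideal.ne_bot_of_liesOver_of_ne_bot v.ne_bot Q⟩, HeightOneSpectrum.ext hQ'.over.symm⟩

theorem valuation_algebraMap (W : Plc') (x : k) :
    ∃ e : ℕ, e ≠ 0 ∧ W.valuation K (algebraMap k K x) = (below k W).valuation k x ^ e := by
  have : W.asIdeal.LiesOver (below k W).asIdeal := ⟨rfl⟩
  exact ⟨_, Ideal.IsDedekindDomain.ramificationIdx'_ne_zero_of_liesOver W.asIdeal (below k W).ne_bot,
    (HeightOneSpectrum.valuation_liesOver K (below k W) W x).symm⟩

theorem valuation_algebraMap_le_one (W : Plc') (x : k) :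
    W.valuation K (algebraMap k K x) ≤ 1 ↔ (below k W).valuation k x ≤ 1 := by
  obtain ⟨e, he, h⟩ := valuation_algebraMap W x
  rw [h, pow_le_one_iff he]

theorem valuation_algebraMap_lt_one (W : Plc') (x : k) :
    W.valuation K (algebraMap k K x) < 1 ↔ (below k W).valuation k x < 1 := by
  rw [← not_le, ← not_le, not_iff_not]
  obtain ⟨e, he, h⟩ := valuation_algebraMap W x
  rw [h, one_le_pow_iff he]

theorem valuation_algebraMap_eq_one (W : Plc') (x : k) :
    W.valuation K (algebraMap k K x) = 1 ↔ (below k W).valuation k x = 1 := by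
  obtain ⟨e, he, h⟩ := valuation_algebraMap W x
  rw [h, pow_eq_one_iff_left he]

theorem valuation_algebraMap_mono (W : Plc') {x y : k}
    (h : (below k W).valuation k x ≤ (below k W).valuation k y) :
    W.valuation K (algebraMap k K x) ≤ W.valuation K (algebraMap k K y) := by
  rcases eq_or_ne y 0 with rfl | hy
  · simp only [map_zero, nonpos_iff_eq_zero, map_eq_zero] at h
    simp [h]
  · have h1 : W.valuation K (algebraMap k K (x / y)) ≤ 1 := by
      rw [valuation_algebraMap_le_one, map_div₀, div_le_one₀ (zero_lt_iff.2 ((Valuation.ne_zero_iff _).2 hy))]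
      exact h
    rwa [map_div₀, map_div₀, div_le_one₀ (zero_lt_iff.2 (by simp [hy]))] at h1

theorem exists_pow_mul_le_one {W : Plc'} (s y : K) (hs : W.valuation K s < 1) :
    ∃ N : ℕ, ∀ m, N ≤ m → W.valuation K (s ^ m * y) ≤ 1 := by
  rcases eq_or_ne y 0 with rfl | hy
  · exact ⟨0, fun m _ => by simp⟩
  have hy' : (W.valuation K y) ≠ 0 := (Valuation.ne_zero_iff _).2 hy
  obtain ⟨N, hN⟩ := exists_pow_lt₀ hs (Units.mk0 (W.valuation K y)⁻¹ (inv_ne_zero hy'))
  refine ⟨N, fun m hm => ?_⟩
  rw [map_mul, map_pow]
  refine (mul_le_mul' ((pow_le_pow_right_of_le_one' hs.le hm).trans hN.le) le_rfl).trans ?_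
  simp [hy']

/-- An element integral at every place above `v` becomes integral after multiplication by an element prime to `v`. -/
theorem exists_mul_integral (v : Plc) (y : K) (hy : ∀ W : Plc', below k W = v → W.valuation K y ≤ 1) :
    ∃ s : NumberField.RingOfIntegers k, s ∉ v.asIdeal ∧ ∃ z : NumberField.RingOfIntegers K,
      algebraMap k K (algebraMap _ k s) * y = algebraMap _ K z := by
  classical
  have hfin := HeightOneSpectrum.Support.finite (NumberField.RingOfIntegers K) y
  have hs : ∀ W ∈ hfin.toFinset, ∃ s : NumberField.RingOfIntegers k, s ∈ (below k W).asIdeal ∧ s ∉ v.asIdeal := by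
    intro W hW
    by_contra hcon
    push Not at hcon
    have hle : (below k W).asIdeal ≤ v.asIdeal := fun s hs => hcon s hs
    have heq : below k W = v := HeightOneSpectrum.ext
      ((below k W).isMaximal.eq_of_le v.isPrime.ne_top hle)
    exact (lt_irrefl _) (lt_of_lt_of_le (hfin.mem_toFinset.1 hW) (hy W heq))
  choose! s hs hs' using hs
  have hN : ∀ W ∈ hfin.toFinset, ∃ N : ℕ, ∀ m, N ≤ m →
      W.valuation K ((algebraMap k K (algebraMap _ k (s W))) ^ m * y) ≤ 1 := fun W hW =>
    exists_pow_mul_le_one _ y ((valuation_algebraMap_lt_one W _).2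
      ((HeightOneSpectrum.valuation_lt_one_iff_mem _ _).2 (hs W hW)))
  choose! N hN using hN
  refine ⟨∏ W ∈ hfin.toFinset, s W ^ N W, ?_, ?_⟩
  · exact Finset.prod_induction _ (fun t => t ∉ v.asIdeal) (fun a b ha hb h => (v.isPrime.mem_or_mem h).elim ha hb)
      (fun h => v.isPrime.ne_top ((Ideal.eq_top_iff_one _).2 h))
      fun W hW h => hs' W hW (v.isPrime.mem_of_pow_mem _ h)
  · obtain ⟨z, hz⟩ := HeightOneSpectrum.mem_integers_of_valuation_le_one K
      (algebraMap k K (algebraMap _ k (∏ W ∈ hfin.toFinset, s W ^ N W)) * y) fun W => by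
        by_cases hW : W ∈ hfin.toFinset
        · rw [← Finset.mul_prod_erase _ _ hW, map_mul (algebraMap (NumberField.RingOfIntegers k) k),
            map_pow (algebraMap (NumberField.RingOfIntegers k) k), map_mul (algebraMap k K),
            map_pow (algebraMap k K), mul_right_comm, map_mul]
          refine mul_le_one' (hN W hW _ le_rfl) ((valuation_algebraMap_le_one W _).2 ?_)
          exact HeightOneSpectrum.valuation_le_one _ _
        · rw [map_mul]
          refine mul_le_one' ((valuation_algebraMap_le_one W _).2 (HeightOneSpectrum.valuation_le_one _ _)) ?_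
          exact not_lt.1 fun h => hW (hfin.mem_toFinset.2 h)
    exact ⟨z, hz.symm⟩

/-- Outside finitely many places, a linear form maps integral elements to integral elements. -/
theorem exists_form_bound (f : K →ₗ[k] k) :
    ∃ T : Finset Plc, ∀ v ∉ T, ∀ y : K, (∀ W : Plc', below k W = v → W.valuation K y ≤ 1) →
      v.valuation k (f y) ≤ 1 := by
  classical
  let b := NumberField.RingOfIntegers.basis K
  refine ⟨Finset.univ.biUnion fun j =>
    (HeightOneSpectrum.Support.finite (NumberField.RingOfIntegers k) (f (algebraMap _ K (b j)))).toFinset, ?_⟩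
  intro v hv y hy
  obtain ⟨s, hs, z, hz⟩ := exists_mul_integral v y hy
  have hb : ∀ j, v.valuation k (f (algebraMap _ K (b j))) ≤ 1 := fun j => not_lt.1 fun h => hv
    (Finset.mem_biUnion.2 ⟨j, Finset.mem_univ _, (Set.Finite.mem_toFinset _).2 h⟩)
  have hfz : v.valuation k (f (algebraMap _ K z)) ≤ 1 := by
    rw [← b.sum_repr z, map_sum, map_sum]
    refine Valuation.map_sum_le _ fun j _ => ?_
    rw [zsmul_eq_mul, map_mul, map_intCast,
      show ((b.repr z j : K)) * algebraMap _ K (b j) = ((b.repr z j : k)) • algebraMap _ K (b j) by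
        rw [Algebra.smul_def, map_intCast], map_smul, smul_eq_mul, map_mul]
    refine mul_le_one' ?_ (hb j)
    rw [← map_intCast (algebraMap (NumberField.RingOfIntegers k) k)]
    exact v.valuation_le_one _
  have hs1 : v.valuation k (algebraMap _ k s) = 1 :=
    le_antisymm (v.valuation_le_one s) (not_lt.1 fun h => hs ((v.valuation_lt_one_iff_mem s).1 h))
  rw [← Algebra.smul_def] at hz
  have h := congr_arg (fun x => v.valuation k (f x)) hz
  simp only [map_smul, smul_eq_mul, map_mul, hs1, one_mul] at h
  exact h.le.trans hfz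

/-- A linear form is small at `v` on elements small at all places above `v`. -/
theorem exists_form_small (f : K →ₗ[k] k) (v : Plc) (γ : k) (hγ : γ ≠ 0) :
    ∃ c : k, c ≠ 0 ∧ v.valuation k c < 1 ∧ ∀ y : K,
      (∀ W : Plc', below k W = v → W.valuation K y ≤ W.valuation K (algebraMap k K c)) →
        v.valuation k (f y) ≤ v.valuation k γ := by
  classical
  let b := NumberField.RingOfIntegers.basis K
  obtain ⟨π, hπ⟩ := v.valuation_exists_uniformizer k
  have hπ1 : v.valuation k π < 1 := by rw [hπ, ← WithZero.exp_zero]; exact WithZero.exp_lt_exp.2 (by norm_num)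
  have hπ0 : π ≠ 0 := fun h => by simp [h] at hπ; exact WithZero.exp_ne_zero hπ.symm
  let M : k := ∏ j, (if f (algebraMap _ K (b j)) = 0 ∨ v.valuation k (f (algebraMap _ K (b j))) ≤ 1 then 1
    else f (algebraMap _ K (b j)))
  have hM0 : M ≠ 0 := Finset.prod_ne_zero_iff.2 fun j _ => by
    split_ifs with h
    · exact one_ne_zero
    · exact (not_or.1 h).1
  have hfac : ∀ j, 1 ≤ v.valuation k (if f (algebraMap _ K (b j)) = 0 ∨ v.valuation k (f (algebraMap _ K (b j))) ≤ 1
      then 1 else f (algebraMap _ K (b j))) := fun j => by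
    split_ifs with h
    · simp
    · exact (not_le.1 (not_or.1 h).2).le
  have hM : ∀ j, v.valuation k (f (algebraMap _ K (b j))) ≤ v.valuation k M := fun j => by
    refine le_trans ?_ (show v.valuation k (if f (algebraMap _ K (b j)) = 0 ∨
        v.valuation k (f (algebraMap _ K (b j))) ≤ 1 then 1 else f (algebraMap _ K (b j))) ≤ _ by
      simp only [M]
      rw [← Finset.mul_prod_erase _ _ (Finset.mem_univ j), map_mul]
      refine le_mul_of_one_le_right' ?_
      rw [map_prod]
      exact Finset.one_le_prod' fun j _ => hfac j)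
    split_ifs with h
    · rcases h with h | h
      · simp [h]
      · simpa using h
    · exact le_rfl
  have hγM : γ / M ≠ 0 := div_ne_zero hγ hM0
  obtain ⟨c, hc0, hc1, hc2⟩ : ∃ c : k, c ≠ 0 ∧ v.valuation k c < 1 ∧ v.valuation k c ≤ v.valuation k (γ / M) := by
    rcases lt_or_ge (v.valuation k (γ / M)) 1 with h | h
    · exact ⟨_, hγM, h, le_rfl⟩
    · exact ⟨π, hπ0, hπ1, hπ1.le.trans h⟩
  refine ⟨c, hc0, hc1, fun y hy => ?_⟩
  obtain ⟨s, hs, z, hz⟩ := exists_mul_integral v (algebraMap k K c⁻¹ * y) fun W hW => by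
    rw [map_inv₀, map_mul, map_inv₀]
    calc (W.valuation K (algebraMap k K c))⁻¹ * W.valuation K y
        ≤ (W.valuation K (algebraMap k K c))⁻¹ * W.valuation K (algebraMap k K c) := mul_le_mul' le_rfl (hy W hW)
      _ = 1 := inv_mul_cancel₀ (by simp [hc0])
  have hfz : v.valuation k (f (algebraMap _ K z)) ≤ v.valuation k M := by
    rw [← b.sum_repr z, map_sum, map_sum]
    refine Valuation.map_sum_le _ fun j _ => ?_
    rw [zsmul_eq_mul, map_mul, map_intCast,
      show ((b.repr z j : K)) * algebraMap _ K (b j) = ((b.repr z j : k)) • algebraMap _ K (b j) by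
        rw [Algebra.smul_def, map_intCast], map_smul, smul_eq_mul, map_mul]
    refine (mul_le_of_le_one_left' ?_).trans (hM j)
    rw [← map_intCast (algebraMap (NumberField.RingOfIntegers k) k)]
    exact v.valuation_le_one _
  have hs1 : v.valuation k (algebraMap _ k s) = 1 :=
    le_antisymm (v.valuation_le_one s) (not_lt.1 fun h => hs ((v.valuation_lt_one_iff_mem s).1 h))
  rw [← Algebra.smul_def] at hz
  have h := congr_arg (fun x => v.valuation k (f x)) hz
  simp only [map_smul, smul_eq_mul, map_mul, hs1, one_mul] at h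
  rw [← Algebra.smul_def, map_smul, smul_eq_mul, map_mul, map_inv₀] at h
  calc v.valuation k (f y) = v.valuation k c * ((v.valuation k c)⁻¹ * v.valuation k (f y)) := by
        rw [mul_inv_cancel_left₀ (by simp [hc0])]
    _ ≤ v.valuation k (γ / M) * v.valuation k M := mul_le_mul' hc2 (h.le.trans hfz)
    _ = v.valuation k γ := by rw [← map_mul, div_mul_cancel₀ _ hM0]

/-- A linear form is small at an infinite place on elements small at all places above it. -/
theorem exists_form_small_infinite (f : K →ₗ[k] k) (w : InfinitePlace k) (ε : ℝ) (hε : 0 < ε) :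
    ∃ δ : ℝ, 0 < δ ∧ ∀ y : K, (∀ W : InfinitePlace K, W.comap (algebraMap k K) = w → W y < δ) →
      w (f y) < ε := by
  classical
  have : FiniteDimensional k K := Module.Finite.of_restrictScalars_finite ℚ k K
  let e : K := ((Algebra.traceForm k K).toDual (traceForm_nondegenerate k K)).symm f
  have he : ∀ y, f y = Algebra.trace k K (e * y) := fun y =>
    (LinearMap.BilinForm.apply_toDual_symm_apply (hB := traceForm_nondegenerate k K) f y).symm
  let : Algebra k ℂ := w.embedding.toAlgebra
  let C : ℝ := ∑ ψ : K →ₐ[k] ℂ, ‖ψ e‖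
  have hC : 0 ≤ C := Finset.sum_nonneg fun ψ _ => norm_nonneg _
  refine ⟨ε / (C + 1), div_pos hε (by linarith), fun y hy => ?_⟩
  rw [← InfinitePlace.norm_embedding_eq, he,
    show w.embedding (Algebra.trace k K (e * y)) = algebraMap k ℂ (Algebra.trace k K (e * y)) from rfl,
    trace_eq_sum_embeddings (E := ℂ)]
  calc ‖∑ ψ : K →ₐ[k] ℂ, ψ (e * y)‖ ≤ ∑ ψ : K →ₐ[k] ℂ, ‖ψ e‖ * (ε / (C + 1)) := by
        refine (norm_sum_le _ _).trans (Finset.sum_le_sum fun ψ _ => ?_)
        rw [map_mul, norm_mul]
        refine mul_le_mul_of_nonneg_left ?_ (norm_nonneg _)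
        refine (hy (InfinitePlace.mk ψ.toRingHom) ?_).le
        rw [InfinitePlace.comap_mk, show ψ.toRingHom.comp (algebraMap k K) = w.embedding from ψ.comp_algebraMap]
        exact InfinitePlace.mk_embedding w
    _ = C * (ε / (C + 1)) := (Finset.sum_mul ..).symm
    _ < ε := by
        rw [mul_div_assoc', div_lt_iff₀ (by linarith)]
        nlinarith

end Groth.Agent.NormPlace
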