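import Groth.Agent.NormPlace.Exists
import Groth.Agent.NormPlace.Coord

/-!
# Places over which several extensions split at every place above
-/

set_option autoImplicit false

noncomputable section

open NumberField IsDedekindDomain Polynomial
open scoped IntermediateField

universe u v

namespace Groth.Agent.NormPlace

/-- If a normal field containing the conjugates of `L` embeds in `E`, then `L` embeds over `F` in every `F`-algebra
structure on `E`. -/
theorem exists_algHom_of_normal {k F L Ω : Type u} {E : Type v} [Field k] [Field F] [Field L] [Field Ω]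
    [Algebra k F] [Algebra k L] [Algebra F L] [IsScalarTower k F L] [Algebra k Ω] [IsAlgClosed Ω]
    [FiniteDimensional k F] [FiniteDimensional k L] (M : IntermediateField k Ω) [Normal k M]
    (hM : ∀ g : L →ₐ[k] Ω, g.fieldRange ≤ M)
    [Field E] [Algebra k E] [Algebra F E] [IsScalarTower k F E] (ψ : M →ₐ[k] E) :
    Nonempty (L →ₐ[F] E) := by
  have : Nonempty (L →ₐ[k] Ω) := ⟨IsAlgClosed.lift⟩
  obtain ⟨g₀⟩ := this
  -- the image of `F` in `E` lies in the image of `M`
  have hle : (IsScalarTower.toAlgHom k F E).fieldRange ≤ ψ.fieldRange := by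
    rintro _ ⟨x, rfl⟩
    have hs : ((minpoly k x).map (algebraMap k M)).Splits := by
      let m : M := ⟨g₀ (algebraMap F L x), hM g₀ ⟨_, rfl⟩⟩
      have hm : minpoly k m = minpoly k x := by
        rw [← minpoly.algHom_eq M.val M.val.injective m]
        exact (minpoly.algHom_eq g₀ g₀.injective _).trans
          (minpoly.algHom_eq (IsScalarTower.toAlgHom k F L) (algebraMap F L).injective x)
      rw [← hm]
      exact Normal.splits inferInstance m
    have h0 : minpoly k x ≠ 0 := minpoly.ne_zero (IsIntegral.of_finite k x)
    have hmem : algebraMap F E x ∈ ((minpoly k x).map (algebraMap k E)).roots := by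
      rw [mem_roots (Polynomial.map_ne_zero h0), IsRoot.def, eval_map, ← aeval_def, aeval_algebraMap_apply,
        minpoly.aeval, map_zero]
    have hroots := hs.roots_map (ψ : M →+* E)
    rw [← ψ.comp_algebraMap, ← Polynomial.map_map] at hmem
    obtain ⟨r, -, hr⟩ := Multiset.mem_map.1 (hroots ▸ hmem)
    exact ⟨r, hr⟩
  choose j hj using fun x : F => show ∃ r, ψ r = algebraMap F E x from hle ⟨x, rfl⟩
  have hadd : ∀ x y, j (x + y) = j x + j y := fun x y => (ψ : M →+* E).injective (by simpa using (hj (x + y)).trans (by simp [hj]))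
  have hmul : ∀ x y, j (x * y) = j x * j y := fun x y => (ψ : M →+* E).injective (by simpa using (hj (x * y)).trans (by simp [hj]))
  have hone : j 1 = 1 := (ψ : M →+* E).injective (by simpa using hj 1)
  have hzero : j 0 = 0 := (ψ : M →+* E).injective (by simpa using hj 0)
  let jh : F →ₐ[k] M :=
    { toFun := j
      map_one' := hone
      map_mul' := hmul
      map_zero' := hzero
      map_add' := hadd
      commutes' := fun r => (ψ : M →+* E).injective (by simpa [← IsScalarTower.algebraMap_apply] using hj (algebraMap k F r)) }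
  let : Algebra F Ω := (M.val.comp jh).toRingHom.toAlgebra
  have : IsScalarTower k F Ω := IsScalarTower.of_algebraMap_eq fun r => ((M.val.comp jh).commutes r).symm
  have : FiniteDimensional F L := Module.Finite.of_restrictScalars_finite k F L
  let g : L →ₐ[F] Ω := IsAlgClosed.lift
  have hg : ∀ l, g l ∈ M := fun l => hM (g.restrictScalars k) ⟨l, rfl⟩
  let g' : L →ₐ[k] M := (g.restrictScalars k).codRestrict M.toSubalgebra hg
  refine ⟨{ (ψ.comp g').toRingHom with commutes' := fun x => ?_ }⟩
  show ψ (g' (algebraMap F L x)) = algebraMap F E x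
  rw [show g' (algebraMap F L x) = j x from Subtype.ext (g.commutes x)]
  exact hj x

variable {k : Type u} [Field k] [NumberField k]

local notation "Plc" => HeightOneSpectrum (NumberField.RingOfIntegers k)

/-- An approximate simple root below gives a root in the completion above. -/
theorem exists_root_above {F : Type u} [Field F] [NumberField F] [Algebra k F]
    (W : HeightOneSpectrum (NumberField.RingOfIntegers F)) (f : (NumberField.RingOfIntegers k)[X]) (hf : f.Monic)
    (s : NumberField.RingOfIntegers k)
    (h1 : f.eval s ∈ (below k W).asIdeal) (h2 : f.derivative.eval s ∉ (below k W).asIdeal) :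
    ∃ r : W.adicCompletion F, f.eval₂ ((algebraMap F (W.adicCompletion F)).comp
      ((algebraMap k F).comp (algebraMap (NumberField.RingOfIntegers k) k))) r = 0 := by
  let φ : NumberField.RingOfIntegers k →+* W.adicCompletion F := (algebraMap F (W.adicCompletion F)).comp
      ((algebraMap k F).comp (algebraMap (NumberField.RingOfIntegers k) k))
  have hφ : ∀ r, Valued.v (φ r) = W.valuation F (algebraMap k F (algebraMap _ k r)) := fun r =>
    HeightOneSpectrum.adicCompletion.valued_coe (K := F) (v := W) _
  have hmem : ∀ r, φ r ∈ W.adicCompletionIntegers F := fun r => by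
    rw [HeightOneSpectrum.mem_adicCompletionIntegers, hφ, valuation_algebraMap_le_one]
    exact HeightOneSpectrum.valuation_le_one _ r
  let ρ : NumberField.RingOfIntegers k →+* W.adicCompletionIntegers F :=
    φ.codRestrict (W.adicCompletionIntegers F).toSubring hmem
  have hρ : ∀ r, (ρ r ∈ IsLocalRing.maximalIdeal (W.adicCompletionIntegers F)) ↔ r ∈ (below k W).asIdeal := fun r => by
    rw [IsLocalRing.mem_maximalIdeal, mem_nonunits_iff,
      HeightOneSpectrum.adicCompletionIntegers.isUnit_iff_valued_eq_one,
      show ((ρ r : W.adicCompletionIntegers F) : W.adicCompletion F) = φ r from rfl, hφ,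
      ← (below k W).valuation_lt_one_iff_mem (K := k), valuation_algebraMap_eq_one]
    exact ⟨fun h => lt_of_le_of_ne ((below k W).valuation_le_one r) h, fun h => h.ne⟩
  obtain ⟨r, hr⟩ := exists_root W (f.map ρ) (hf.map ρ) (ρ s)
    (by rw [Polynomial.eval_map, Polynomial.eval₂_at_apply, hρ]; exact h1)
    (by rw [Polynomial.derivative_map, Polynomial.eval_map, Polynomial.eval₂_at_apply, hρ]; exact h2)
  refine ⟨r, ?_⟩
  have h := congr_arg (W.adicCompletionIntegers F).subtype hr
  rw [Polynomial.eval_map, Polynomial.hom_eval₂, map_zero] at h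
  exact h

/-- A place of `k` above which all the given extensions split at every place. -/
theorem exists_split_all {ι : Type} [Finite ι] (kf : ι → Type u) [∀ i, Field (kf i)] [∀ i, NumberField (kf i)]
    [∀ i, Algebra k (kf i)] (Lf : ι → Type u) [∀ i, Field (Lf i)] [∀ i, NumberField (Lf i)]
    [∀ i, Algebra (kf i) (Lf i)] [∀ i, Algebra k (Lf i)] [∀ i, IsScalarTower k (kf i) (Lf i)] (T : Finset Plc) :
    ∃ v : Plc, v ∉ T ∧ ∀ i, ∀ W : HeightOneSpectrum (NumberField.RingOfIntegers (kf i)), below k W = v →
      Nonempty (Lf i →ₐ[kf i] W.adicCompletion (kf i)) := by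
  classical
  have hF : ∀ i, FiniteDimensional k (kf i) := fun i => Module.Finite.of_restrictScalars_finite ℚ k (kf i)
  have hL : ∀ i, FiniteDimensional k (Lf i) := fun i => Module.Finite.of_restrictScalars_finite ℚ k (Lf i)
  let Ω := AlgebraicClosure k
  let M : IntermediateField k Ω := ⨆ i, IntermediateField.normalClosure k (Lf i) Ω
  have : ∀ i, Normal k (IntermediateField.normalClosure k (Lf i) Ω) := fun i => inferInstance
  have hMn : Normal k M := IntermediateField.normal_iSup k Ω _
  have hMf : FiniteDimensional k M := IntermediateField.finiteDimensional_iSup_of_finite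
  have : CharZero M := charZero_of_injective_algebraMap (algebraMap k M).injective
  have : NumberField M := { to_finiteDimensional := Module.Finite.trans k M }
  have hM : ∀ i, ∀ g : Lf i →ₐ[k] Ω, g.fieldRange ≤ M := fun i g =>
    (AlgHom.fieldRange_le_normalClosure g).trans (le_iSup (fun i => IntermediateField.normalClosure k (Lf i) Ω) i)
  obtain ⟨θ, hθi, hθ, hθ0⟩ : ∃ θ : M, IsIntegral ℤ θ ∧ k⟮θ⟯ = ⊤ ∧ θ ≠ 0 := by
    obtain ⟨θ, hi, h⟩ := exists_integral_generator (k := k) (L := M) (Algebra.IsAlgebraic.of_finite ℚ M)
    by_cases h0 : θ = 0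
    · refine ⟨1, isIntegral_one, ?_, one_ne_zero⟩
      rw [h0, IntermediateField.adjoin_zero] at h
      rw [IntermediateField.adjoin_one, h]
    · exact ⟨θ, hi, h, h0⟩
  let g := minpoly k θ
  have hg0 : g.coeff 0 ≠ 0 := minpoly.coeff_zero_ne_zero (IsIntegral.of_finite k θ) hθ0
  have : IsScalarTower ℤ (NumberField.RingOfIntegers k) M := IsScalarTower.of_algebraMap_eq fun x => by simp
  have hint : IsIntegral (NumberField.RingOfIntegers k) θ := hθi.tower_top
  let f := minpoly (NumberField.RingOfIntegers k) θ
  have hfg : g = f.map (algebraMap (NumberField.RingOfIntegers k) k) :=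
    minpoly.isIntegrallyClosed_eq_field_fractions k M hint
  obtain ⟨a, b, hab⟩ := (Algebra.IsSeparable.isSeparable k θ : g.Separable)
  let D : Finset Plc := ((finite_coeff a).union (finite_coeff b)).toFinset
  obtain ⟨v, hv, s, hs⟩ := exists_place_root f (minpoly.natDegree_pos hint)
    (fun h0 => hg0 (by rw [hfg, coeff_map, h0, map_zero])) (T ∪ D)
  simp only [Finset.mem_union, not_or] at hv
  refine ⟨v, hv.1, fun i W hW => ?_⟩
  have hnot := hv.2
  simp only [D, Set.Finite.mem_toFinset, Set.mem_union, Set.mem_ofPred_eq, not_or, not_exists, not_lt] at hnot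
  have hgc : ∀ j, v.valuation k (g.coeff j) ≤ 1 := fun j => by rw [hfg, coeff_map]; exact v.valuation_le_one _
  have hgd : ∀ j, v.valuation k (g.derivative.coeff j) ≤ 1 := fun j => by
    rw [hfg, derivative_map, coeff_map]; exact v.valuation_le_one _
  have hsk : v.valuation k (algebraMap _ k s) ≤ 1 := v.valuation_le_one s
  have h1 : v.valuation k (g.eval (algebraMap _ k s)) < 1 := by
    rw [hfg, eval_map_apply, v.valuation_lt_one_iff_mem]
    exact hs
  have h2 : v.valuation k (g.derivative.eval (algebraMap _ k s)) = 1 := by
    have hev := congr_arg (Polynomial.eval (algebraMap _ k s)) hab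
    simp only [eval_add, eval_mul, eval_one] at hev
    refine le_antisymm (eval_le_one v _ hgd _ hsk) (not_lt.1 fun h2 => ?_)
    have : v.valuation k (1 : k) < 1 := by
      rw [← hev]
      refine Valuation.map_add_lt _ ?_ ?_ <;> rw [map_mul]
      · exact (mul_le_of_le_one_left' (eval_le_one v a hnot.1 _ hsk)).trans_lt h1
      · exact (mul_le_of_le_one_left' (eval_le_one v b hnot.2 _ hsk)).trans_lt h2
    simp at this
  have hs' : f.derivative.eval s ∉ v.asIdeal := by
    rw [← v.valuation_lt_one_iff_mem (K := k)]
    intro hlt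
    have h3 : v.valuation k (g.derivative.eval (algebraMap _ k s)) < 1 := by
      rw [hfg, derivative_map, eval_map_apply]; exact hlt
    rw [h2] at h3
    exact lt_irrefl _ h3
  obtain ⟨r, hr⟩ := exists_root_above W f (minpoly.monic hint) s (hW ▸ hs) (hW ▸ hs')
  let E := W.adicCompletion (kf i)
  let : Algebra k E := ((algebraMap (kf i) E).comp (algebraMap k (kf i))).toAlgebra
  have : IsScalarTower k (kf i) E := IsScalarTower.of_algebraMap_eq fun _ => rfl
  have hroot : aeval (r : E) g = 0 := by
    rw [aeval_def, hfg, eval₂_map]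
    exact hr
  have hxi : IsIntegral k θ := IsIntegral.of_finite k θ
  let e : M ≃ₐ[k] IntermediateField.adjoin k {θ} :=
    ((IntermediateField.equivOfEq hθ).trans IntermediateField.topEquiv).symm
  have := hF i
  have := hL i
  exact exists_algHom_of_normal M (hM i) (((IntermediateField.adjoin.powerBasis hxi).lift (r : E) (by
    rw [IntermediateField.adjoin.powerBasis_gen, IntermediateField.minpoly_gen]
    exact hroot)).comp e.toAlgHom)

end Groth.Agent.NormPlace
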