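import Groth.Agent.NormPlace.Local
import Groth.Agent.NormPlace.SplitAll

/-!
# Locally split values when the degrees sum to at most two
-/

set_option autoImplicit false

noncomputable section

open NumberField IsDedekindDomain
open scoped TensorProduct

universe u

namespace Groth.Agent.NormPlace

theorem norm_one_tmul {k L : Type u} [Field k] [Field L] [Algebra k L] [FiniteDimensional k L]
    (K : Type u) [Field K] [Algebra k K] (y : L) :
    Algebra.norm K ((1 : K) ⊗ₜ[k] y) = algebraMap k K (Algebra.norm k y) := by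
  classical
  let B := Module.finBasis k L
  rw [Algebra.norm_eq_matrix_det (B.baseChange K), Algebra.norm_eq_matrix_det B, RingHom.map_det]
  congr 1
  ext i j
  rw [RingHom.mapMatrix_apply, Matrix.map_apply, Algebra.leftMulMatrix_eq_repr_mul, Algebra.leftMulMatrix_eq_repr_mul,
    Module.Basis.baseChange_apply, Algebra.TensorProduct.tmul_mul_tmul, one_mul, Module.Basis.baseChange_repr_tmul,
    Algebra.smul_def, mul_one]

/-- A nonzero linear form cannot take one value on all `m`-th powers, up to a sign change. -/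
theorem exists_form_pow_ne {k F : Type u} [Field k] [CharZero k] [Field F] [Algebra k F] (g : F →ₗ[k] k)
    (hg : g ≠ 0) (C₀ : k) {m : ℕ} (hm : m ≠ 0) : ∃ y : F, y ≠ 0 ∧ g (y ^ m) + C₀ ≠ 0 := by
  classical
  by_contra hcon
  push Not at hcon
  have : CharZero F := charZero_of_injective_algebraMap (algebraMap k F).injective
  have h1 := hcon 1 one_ne_zero
  have h2 := hcon 2 two_ne_zero
  rw [one_pow] at h1
  rw [show ((2 : F) ^ m) = ((2 : k) ^ m) • (1 : F) by rw [Algebra.smul_def, mul_one, map_pow, map_ofNat], map_smul,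
    smul_eq_mul] at h2
  have h3 : ((2 : k) ^ m - 1) * g 1 = 0 := by linear_combination h2 - h1
  have h4 : (2 : k) ^ m - 1 ≠ 0 := by
    intro h
    have h' : ((2 ^ m : ℕ) : k) = ((1 : ℕ) : k) := by push_cast; linear_combination h
    exact (Nat.one_lt_two_pow hm).ne' (Nat.cast_injective h')
  have hg1 : g 1 = 0 := (mul_eq_zero.1 h3).resolve_left h4
  have hC : C₀ = 0 := by rwa [hg1, zero_add] at h1
  have hall : ∀ y : F, g (y ^ m) = 0 := fun y => by
    rcases eq_or_ne y 0 with rfl | hy
    · rw [zero_pow hm, map_zero]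
    · simpa [hC] using hcon y hy
  refine hg (LinearMap.ext fun e => ?_)
  let P : Polynomial k := ∑ j ∈ Finset.range (m + 1), Polynomial.monomial (m - j) ((m.choose j : k) * g (e ^ j))
  have hP : P = 0 := Polynomial.eq_zero_of_infinite_isRoot P (Set.infinite_univ.mono fun s _ => by
    show P.eval s = 0
    rw [← hall (e + algebraMap k F s), add_pow, map_sum, Polynomial.eval_finsetSum]
    refine Finset.sum_congr rfl fun j _ => ?_
    rw [Polynomial.eval_monomial, show e ^ j * algebraMap k F s ^ (m - j) * (m.choose j : F) =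
      (s ^ (m - j) * (m.choose j : k)) • e ^ j by rw [Algebra.smul_def, map_mul, map_pow, map_natCast]; ring,
      map_smul, smul_eq_mul]
    ring)
  have hcoef := congr_arg (Polynomial.coeff · (m - 1)) hP
  simp only [P, Polynomial.finsetSum_coeff, Polynomial.coeff_monomial, Polynomial.coeff_zero] at hcoef
  rw [Finset.sum_eq_single 1 (fun j hj hj1 => if_neg (by simp only [Finset.mem_range] at hj; omega))
    (fun h => absurd (Finset.mem_range.2 (by omega)) h), if_pos rfl, Nat.choose_one_right, pow_one] at hcoef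
  simpa [hm] using hcoef

variable {k : Type u} [Field k] [NumberField k]
variable {n : ℕ} {kf : Fin n → Type u} [∀ i, Field (kf i)] [∀ i, NumberField (kf i)] [∀ i, Algebra k (kf i)]
variable {Lf : Fin n → Type u} [∀ i, Field (Lf i)] [∀ i, NumberField (Lf i)] [∀ i, Algebra (kf i) (Lf i)]
  [∀ i, Algebra k (Lf i)] [∀ i, IsScalarTower k (kf i) (Lf i)]

/-- Forms solving the linear system exist when the degrees sum to at most two. -/
theorem exists_lineData (hn : 1 ≤ n) (a : ∀ i, kf i) (ha : ∀ i, IntermediateField.adjoin k {a i} = ⊤)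
    (hdist : ∀ i j, i ≠ j → minpoly k (a i) ≠ minpoly k (a j))
    (hdeg : ∑ i, Module.finrank k (kf i) ≤ 2) :
    ∃ (u₀ w₀ : k) (fu fw : ∀ i, kf i →ₗ[k] k), LineData a u₀ w₀ fu fw ∧ (w₀ = 0 ∨ w₀ = -1) ∧
      ∀ (m : ∀ i, kf i) (i : Fin n),
        m i = algebraMap k (kf i) (u₀ + ∑ j, fu j (m j)) + (w₀ + ∑ j, fw j (m j)) • a i := by
  classical
  have hfd : ∀ i, FiniteDimensional k (kf i) := fun i => Module.Finite.of_restrictScalars_finite ℚ k (kf i)
  have hpos : ∀ i, 1 ≤ Module.finrank k (kf i) := fun i => Module.finrank_pos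
  have hnle : n ≤ ∑ i, Module.finrank k (kf i) := by
    simpa using Finset.sum_le_sum (s := (Finset.univ : Finset (Fin n))) fun i _ => hpos i
  rcases (lt_or_eq_of_le hdeg) with hd | hd
  · -- degree one
    obtain rfl : n = 1 := by omega
    have h1 : Module.finrank k (kf 0) = 1 := by
      have := Fin.sum_univ_one fun i => Module.finrank k (kf i)
      have := hpos 0
      omega
    let e : k ≃ₗ[k] kf 0 := LinearEquiv.ofBijective (Algebra.linearMap k (kf 0))
      (bijective_algebraMap_of_linearEquiv ((LinearEquiv.funUnique (Fin 1) k k).symm.trans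
        (Module.finBasisOfFinrankEq k (kf 0) h1).equivFun.symm))
    refine ⟨e.symm (a 0), -1, fun i => by obtain rfl := Subsingleton.elim i 0; exact e.symm.toLinearMap, 0,
      ⟨?_, ?_, ?_, ?_⟩, Or.inr rfl, fun m i => ?_⟩
    · simp
    · simp only [Finset.univ_unique, Fin.default_eq_zero, Finset.sum_singleton]
      exact e.symm_apply_eq.2 (map_one (algebraMap k (kf 0))).symm
    · simp
    · simp
    · obtain rfl := Subsingleton.elim i 0
      have hs : ∀ z, algebraMap k (kf 0) (e.symm z) = z := fun z => e.apply_symm_apply z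
      simp [hs]
  · -- degree two
    let Φ : k × k →ₗ[k] ∀ i, kf i :=
      LinearMap.pi fun i => (Algebra.linearMap k (kf i)).coprod (LinearMap.toSpanSingleton k (kf i) (a i))
    have hΦ : ∀ p i, Φ p i = algebraMap k (kf i) p.1 + p.2 • a i := fun p i => rfl
    have hinj : Function.Injective Φ := by
      rw [injective_iff_map_eq_zero]
      rintro ⟨u, w⟩ h
      have hi : ∀ i, algebraMap k (kf i) u + w • a i = 0 := fun i => congr_fun h i
      have hw : w = 0 := by
        by_contra hw
        have hai : ∀ i, a i = algebraMap k (kf i) (-u / w) := fun i => by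
          have := hi i
          rw [Algebra.smul_def] at this
          rw [map_div₀, map_neg, eq_div_iff (by simpa using hw)]
          linear_combination this
        have hone : ∀ i, Module.finrank k (kf i) = 1 := fun i => by
          have htop : (⊥ : IntermediateField k (kf i)) = ⊤ := by
            rw [← ha i, eq_comm, IntermediateField.adjoin_simple_eq_bot_iff, hai i]
            exact IntermediateField.algebraMap_mem _ _
          rw [← IntermediateField.finrank_top', ← htop, IntermediateField.finrank_bot]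
        have hn2 : n = 2 := by simpa [hone] using hd
        subst hn2
        refine hdist 0 1 (by decide) ?_
        rw [hai 0, hai 1, minpoly.eq_X_sub_C, minpoly.eq_X_sub_C]
      have hu : u = 0 := by simpa [hw] using hi ⟨0, hn⟩
      simp [hu, hw]
    have hfr : Module.finrank k (k × k) = Module.finrank k (∀ i, kf i) := by
      rw [Module.finrank_prod, Module.finrank_self, Module.finrank_pi_fintype, hd]
    let e := LinearEquiv.ofBijective Φ ⟨hinj, (LinearMap.injective_iff_surjective_of_finrank_eq_finrank hfr).1 hinj⟩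
    let fu : ∀ i, kf i →ₗ[k] k := fun i => LinearMap.fst k k k ∘ₗ e.symm.toLinearMap ∘ₗ LinearMap.single k kf i
    let fw : ∀ i, kf i →ₗ[k] k := fun i => LinearMap.snd k k k ∘ₗ e.symm.toLinearMap ∘ₗ LinearMap.single k kf i
    have hu : ∀ m, ∑ j, fu j (m j) = (e.symm m).1 := fun m => by
      conv_rhs => rw [← Finset.univ_sum_single m, map_sum, Prod.fst_sum]
      rfl
    have hw : ∀ m, ∑ j, fw j (m j) = (e.symm m).2 := fun m => by
      conv_rhs => rw [← Finset.univ_sum_single m, map_sum, Prod.snd_sum]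
      rfl
    have he1 : e.symm (fun _ => 1) = (1, 0) := by
      rw [LinearEquiv.symm_apply_eq]
      funext i
      rw [show ∀ p, e p = Φ p from fun p => rfl, hΦ]
      simp
    have hea : e.symm a = (0, 1) := by
      rw [LinearEquiv.symm_apply_eq]
      funext i
      rw [show ∀ p, e p = Φ p from fun p => rfl, hΦ]
      simp
    refine ⟨0, 0, fu, fw, ⟨?_, ?_, ?_, ?_⟩, Or.inl rfl, fun m i => ?_⟩
    · rw [hu a, hea]
    · rw [hu fun _ => 1, he1]
    · rw [hw a, hea, zero_sub]
    · rw [hw fun _ => 1, he1]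
    · rw [hu, hw, zero_add, zero_add, ← hΦ]
      exact (congr_fun (e.apply_symm_apply m) i).symm

/-- Locally split values of `t - aᵢ` exist when the degrees sum to at most two. -/
theorem exists_locallySplit (hn : 1 ≤ n) (a : ∀ i, kf i) (ha : ∀ i, IntermediateField.adjoin k {a i} = ⊤)
    (hdist : ∀ i j, i ≠ j → minpoly k (a i) ≠ minpoly k (a j))
    (hdeg : ∑ i, Module.finrank k (kf i) ≤ 2)
    (b : ∀ i, kf i) (hb : ∀ i, b i ≠ 0)
    (Sf : Finset (HeightOneSpectrum (NumberField.RingOfIntegers k))) (Si : Finset (InfinitePlace k))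
    (hSb : ∀ i, ∀ W : HeightOneSpectrum (NumberField.RingOfIntegers (kf i)),
      below k W ∉ Sf → W.valuation (kf i) (b i) = 1)
    (hSram : ∀ i, ∀ Q : HeightOneSpectrum (NumberField.RingOfIntegers (Lf i)),
      below k (below (kf i) Q) ∉ Sf → Q.asIdeal.ramificationIdx (NumberField.RingOfIntegers (kf i)) = 1)
    (tf : (v : HeightOneSpectrum (NumberField.RingOfIntegers k)) → v.adicCompletion k)
    (ti : (w : InfinitePlace k) → w.Completion)
    (htf : ∀ i, ∀ v ∈ Sf,
      letI := (Algebra.TensorProduct.map (AlgHom.id k (v.adicCompletion k))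
        (IsScalarTower.toAlgHom k (kf i) (Lf i))).toRingHom.toAlgebra
      ∃ x : (v.adicCompletion k) ⊗[k] Lf i, IsUnit x ∧
        Algebra.norm ((v.adicCompletion k) ⊗[k] kf i) x =
          (1 : v.adicCompletion k) ⊗ₜ[k] b i * (tf v ⊗ₜ[k] (1 : kf i) - (1 : v.adicCompletion k) ⊗ₜ[k] a i))
    (hti : ∀ i, ∀ w ∈ Si,
      letI := (Algebra.TensorProduct.map (AlgHom.id k w.Completion)
        (IsScalarTower.toAlgHom k (kf i) (Lf i))).toRingHom.toAlgebra
      ∃ x : w.Completion ⊗[k] Lf i, IsUnit x ∧
        Algebra.norm (w.Completion ⊗[k] kf i) x =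
          (1 : w.Completion) ⊗ₜ[k] b i * (ti w ⊗ₜ[k] (1 : kf i) - (1 : w.Completion) ⊗ₜ[k] a i))
    (Uf : (v : HeightOneSpectrum (NumberField.RingOfIntegers k)) → Set (v.adicCompletion k))
    (hUf : ∀ v ∈ Sf, IsOpen (Uf v) ∧ tf v ∈ Uf v)
    (Ui : (w : InfinitePlace k) → Set w.Completion)
    (hUi : ∀ w ∈ Si, IsOpen (Ui w) ∧ ti w ∈ Ui w) :
    ∃ t₀ : k, (∀ v ∈ Sf, algebraMap k (v.adicCompletion k) t₀ ∈ Uf v) ∧
      (∀ w ∈ Si, algebraMap k w.Completion t₀ ∈ Ui w) ∧
      ∀ i, ∀ W : HeightOneSpectrum (NumberField.RingOfIntegers (kf i)),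
        W.valuation (kf i) (algebraMap k (kf i) t₀ - a i) < 1 →
          below k W ∈ Sf ∨ Nonempty (Lf i →ₐ[kf i] W.adicCompletion (kf i)) := by
  classical
  obtain ⟨u₀, w₀, fu, fw, hl, hw0, hsol⟩ := exists_lineData hn a ha hdist hdeg
  have hfd : ∀ i, FiniteDimensional k (kf i) := fun i => Module.Finite.of_restrictScalars_finite ℚ k (kf i)
  have hLd : ∀ i, FiniteDimensional (kf i) (Lf i) := fun i =>
    Module.Finite.of_restrictScalars_finite ℚ (kf i) (Lf i)
  have hw0' : ∀ v : HeightOneSpectrum (NumberField.RingOfIntegers k), v.valuation k w₀ ≤ 1 := fun v => by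
    rcases hw0 with h | h <;> simp [h]
  -- exceptional places for the form `w`
  choose T hT using fun i => exists_form_bound (fw i)
  let T₀ := (Finset.univ.biUnion T) \ Sf
  -- an auxiliary split place
  obtain ⟨v₀, hv₀, hsplit⟩ := exists_split_all kf Lf (Sf ∪ T₀)
  simp only [Finset.mem_union, not_or] at hv₀
  -- witnesses for nondegeneracy
  obtain ⟨y, hy0, hy⟩ : ∃ y : ∀ i, Lf i, (∀ i, y i ≠ 0) ∧
      aff w₀ fw b (fun i => Algebra.norm (kf i) (y i)) ≠ 0 := by
    by_cases hfw : ∀ i, fw i = 0
    · refine ⟨fun _ => 1, fun _ => one_ne_zero, ?_⟩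
      have h := hl.w_a
      simp only [hfw, LinearMap.zero_apply, Finset.sum_const_zero, sub_zero] at h
      simp [aff, hfw, h]
    · push Not at hfw
      obtain ⟨i₀, hi₀⟩ := hfw
      have hg : (fw i₀).comp (LinearMap.mulLeft k (b i₀)⁻¹) ≠ 0 := fun h => hi₀ (LinearMap.ext fun z => by
        have := LinearMap.congr_fun h (b i₀ * z)
        simpa [hb i₀] using this)
      obtain ⟨z, hz0, hz⟩ := exists_form_pow_ne _ hg (w₀ + ∑ j ∈ Finset.univ.erase i₀, fw j (1 / b j))
        (Module.finrank_pos (R := kf i₀) (M := Lf i₀)).ne'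
      refine ⟨Function.update (fun _ => 1) i₀ (algebraMap (kf i₀) (Lf i₀) z), fun i => ?_, ?_⟩
      · rcases eq_or_ne i i₀ with rfl | h
        · simpa using hz0
        · simp [h]
      · convert hz using 1
        rw [aff, ← Finset.add_sum_erase _ _ (Finset.mem_univ i₀), Function.update_self, Algebra.norm_algebraMap,
          LinearMap.comp_apply, LinearMap.mulLeft_apply, div_eq_inv_mul]
        rw [Finset.sum_congr rfl (g := fun j => fw j (1 / b j)) fun j hj => by
          rw [Function.update_of_ne (Finset.ne_of_mem_erase hj), map_one]]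
        ring
  -- an auxiliary place where these witnesses are units
  have hbad : ∀ i, {W : HeightOneSpectrum (NumberField.RingOfIntegers (kf i)) |
      W.valuation (kf i) (Algebra.norm (kf i) (y i)) ≠ 1}.Finite := fun i => by
    refine ((HeightOneSpectrum.Support.finite (NumberField.RingOfIntegers (kf i)) (Algebra.norm (kf i) (y i))).union
      (HeightOneSpectrum.Support.finite (NumberField.RingOfIntegers (kf i)) (Algebra.norm (kf i) (y i))⁻¹)).subset ?_
    intro W hW
    rcases lt_or_gt_of_ne hW with h | h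
    · refine Or.inr ?_
      show 1 < W.valuation (kf i) (Algebra.norm (kf i) (y i))⁻¹
      rw [map_inv₀, one_lt_inv₀ (zero_lt_iff.2 ((Valuation.ne_zero_iff _).2 (Algebra.norm_ne_zero_iff.2 (hy0 i))))]
      exact h
    · exact Or.inl h
  obtain ⟨v₁, hv₁, -⟩ := exists_split_place (k := k) (L := k)
    (Sf ∪ T₀ ∪ {v₀} ∪ Finset.univ.biUnion fun i => (hbad i).toFinset.image (below k))
  simp only [Finset.mem_union, Finset.mem_singleton, Finset.mem_biUnion, Finset.mem_image, Finset.mem_univ, true_and,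
    Set.Finite.mem_toFinset, Set.mem_ofPred_eq, not_or, not_exists, not_and] at hv₁
  obtain ⟨⟨⟨hv₁S, hv₁T⟩, hv₁0⟩, hv₁u⟩ := hv₁
  have hy1 : ∀ i, ∀ W : HeightOneSpectrum (NumberField.RingOfIntegers (kf i)), below k W = v₁ →
      W.valuation (kf i) (Algebra.norm (kf i) (y i)) = 1 := fun i W hW => not_not.1 fun h => hv₁u i W h hW
  -- integrality of `w` at ordinary places
  have hint : ∀ v, v ∉ Sf → v ∉ T₀ → ∀ t : ∀ i, kf i,
      (∀ i, ∀ W : HeightOneSpectrum (NumberField.RingOfIntegers (kf i)), below k W = v →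
        W.valuation (kf i) (t i) ≤ 1) → v.valuation k (aff w₀ fw b t) ≤ 1 := by
    intro v hvS hvT t ht
    refine Valuation.map_add_le _ (hw0' v) (Valuation.map_sum_le _ fun i _ => hT i v ?_ _ fun W hW => ?_)
    · intro h
      exact hvT (Finset.mem_sdiff.2 ⟨Finset.mem_biUnion.2 ⟨i, Finset.mem_univ _, h⟩, hvS⟩)
    · rw [map_div₀, hSb i W (hW ▸ hvS), div_one]
      exact ht i W hW
  -- targets at the finitely many places
  let P := Sf ∪ T₀ ∪ {v₁}
  have htarget : ∀ v ∈ P, ∃ (c : k) (Y : ∀ i, HeightOneSpectrum (NumberField.RingOfIntegers (kf i)) → Lf i),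
      c ≠ 0 ∧ (∀ i W, Y i W ≠ 0) ∧ ∀ t, CloseAt v c Y t →
        (v ∈ Sf → algebraMap k (v.adicCompletion k) (-aff u₀ fu b t / aff w₀ fw b t) ∈ Uf v) ∧
        (v ∉ Sf → v.valuation k (aff w₀ fw b t) ≤ 1 ∧
          (∀ i, ∀ W : HeightOneSpectrum (NumberField.RingOfIntegers (kf i)), below k W = v →
            W.valuation (kf i) (t i) = 1) ∧ (v = v₁ → aff w₀ fw b t ≠ 0)) := by
    intro v hv
    by_cases hvS : v ∈ Sf
    · obtain ⟨c, Y, hc, hY, h⟩ := exists_target_finite hl b hb v (tf v) (Uf v) (hUf v hvS).1 (hUf v hvS).2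
        fun i => htf i v hvS
      exact ⟨c, Y, hc, hY, fun t ht => ⟨fun _ => (h t ht).2, fun h' => absurd hvS h'⟩⟩
    · by_cases hv1 : v = v₁
      · subst hv1
        obtain ⟨c, hc, h⟩ := exists_target_fixed b v y hy1 hy
          (hint v hv₁S hv₁T _ fun i W hW => (hy1 i W hW).le)
        exact ⟨c, fun i _ => y i, hc, fun i _ => hy0 i, fun t ht =>
          ⟨fun h' => absurd h' hvS, fun _ => ⟨(h t ht).2.1, (h t ht).2.2, fun _ => (h t ht).1⟩⟩⟩
      · obtain ⟨c, Y, hc, hY, h⟩ := exists_target_unit (w₀ := w₀) (fw := fw) hw0 hl.w_one b hb v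
          (fun i W hW => hSb i W (hW ▸ hvS))
          (fun i W hW Q hQ => hSram i Q (by rw [hQ, hW]; exact hvS))
        exact ⟨c, Y, hc, hY, fun t ht =>
          ⟨fun h' => absurd h' hvS, fun _ => ⟨(h t ht).1, (h t ht).2, fun h' => absurd h' hv1⟩⟩⟩
  choose! c Y hc0 hY0 hgood using htarget
  have htargeti : ∀ w ∈ Si, ∃ (δ : ℝ) (Y : ∀ i, Lf i), 0 < δ ∧ (∀ i, Y i ≠ 0) ∧ ∀ t : ∀ i, kf i,
      (∀ i, ∀ W : InfinitePlace (kf i), W.comap (algebraMap k (kf i)) = w →
        W (t i - Algebra.norm (kf i) (Y i)) < δ) →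
        aff w₀ fw b t ≠ 0 ∧ algebraMap k w.Completion (-aff u₀ fu b t / aff w₀ fw b t) ∈ Ui w :=
    fun w hw => exists_target_infinite hl b hb w (ti w) (Ui w) (hUi w hw).1 (hUi w hw).2 fun i => hti i w hw
  choose! δ Z hδ hZ0 hgoodi using htargeti
  -- approximation
  choose W₀ hW₀ using fun i => exists_above (K := kf i) v₀
  have hv₀P : v₀ ∉ P := by simp [P, hv₀, Ne.symm hv₁0]
  have hnear : ∀ i, ∃ t : kf i,
      (∀ v ∈ P, ∀ W : HeightOneSpectrum (NumberField.RingOfIntegers (kf i)), below k W = v →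
        W.valuation (kf i) (t - Algebra.norm (kf i) (Y v i W)) ≤ W.valuation (kf i) (algebraMap k (kf i) (c v))) ∧
      (∀ w ∈ Si, ∀ W : InfinitePlace (kf i), W.comap (algebraMap k (kf i)) = w →
        W (t - Algebra.norm (kf i) (Z w i)) < δ w) ∧
      ∀ W : HeightOneSpectrum (NumberField.RingOfIntegers (kf i)), below k W ∉ P →
        (below k W ≠ v₀ → W.valuation (kf i) t ≤ 1) ∧
        (W.valuation (kf i) t = 1 ∨ Nonempty (Lf i →ₐ[kf i] W.adicCompletion (kf i))) := by
    intro i
    have hmemP : ∀ W : HeightOneSpectrum (NumberField.RingOfIntegers (kf i)),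
        W ∈ (finite_above_finset (K := kf i) P).toFinset ↔ below k W ∈ P := fun W => by
      rw [Set.Finite.mem_toFinset]; rfl
    obtain ⟨t, -, htP, htS, ht1, ht2⟩ := exists_near (k := kf i) (L := Lf i)
      (finite_above_finset (K := kf i) P).toFinset
      (Finset.univ.filter fun W : InfinitePlace (kf i) => W.comap (algebraMap k (kf i)) ∈ Si)
      (fun W => algebraMap (kf i) (W.adicCompletion (kf i)) (Algebra.norm (kf i) (Y (below k W) i W)))
      (fun W => algebraMap (kf i) W.Completion (Algebra.norm (kf i) (Z (W.comap (algebraMap k (kf i))) i)))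
      (fun W hW => ⟨by
        simpa [Algebra.norm_ne_zero_iff] using hY0 _ ((hmemP W).1 hW) i W,
        (1 : W.adicCompletion (kf i)) ⊗ₜ Y (below k W) i W, norm_one_tmul _ _⟩)
      (fun W hW => ⟨by
        exact (map_ne_zero _).2 (Algebra.norm_ne_zero_iff.2 (hZ0 _ (Finset.mem_filter.1 hW).2 i)),
        (1 : W.Completion) ⊗ₜ Z (W.comap (algebraMap k (kf i))) i, norm_one_tmul _ _⟩)
      (fun W => {z | ‖z - algebraMap (kf i) (W.adicCompletion (kf i)) (Algebra.norm (kf i) (Y (below k W) i W))‖ <
        ‖algebraMap (kf i) (W.adicCompletion (kf i)) (algebraMap k (kf i) (c (below k W)))‖})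
      (fun W hW => ⟨isOpen_lt (continuous_id.sub continuous_const).norm continuous_const, by
        simp only [Set.mem_ofPred_eq, sub_self, norm_zero, norm_pos_iff]
        simpa using hc0 _ ((hmemP W).1 hW)⟩)
      (fun W => {z | ‖z - algebraMap (kf i) W.Completion (Algebra.norm (kf i) (Z (W.comap (algebraMap k (kf i))) i))‖ <
        δ (W.comap (algebraMap k (kf i)))})
      (fun W hW => ⟨isOpen_lt (continuous_id.sub continuous_const).norm continuous_const, by
        simp only [Set.mem_ofPred_eq, sub_self, norm_zero]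
        exact hδ _ (Finset.mem_filter.1 hW).2⟩)
      (W₀ i) (by simp [hW₀ i, hv₀P]) (hsplit i (W₀ i) (hW₀ i))
    refine ⟨t, fun v hv W hW => ?_, fun w hw W hW => ?_, fun W hW => ⟨fun hne => ?_, ?_⟩⟩
    · subst hW
      have h := htP W ((hmemP W).2 hv)
      simp only [Set.mem_ofPred_eq, ← map_sub] at h
      have h' := Valued.toNormedField.norm_lt_iff.1 h
      rw [show ∀ z, Valued.v (algebraMap (kf i) (W.adicCompletion (kf i)) z) = W.valuation (kf i) z from
        fun z => HeightOneSpectrum.adicCompletion.valued_coe (K := kf i) (v := W) z,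
        show Valued.v (algebraMap (kf i) (W.adicCompletion (kf i)) (algebraMap k (kf i) (c (below k W)))) =
          W.valuation (kf i) (algebraMap k (kf i) (c (below k W))) from
          HeightOneSpectrum.adicCompletion.valued_coe (K := kf i) (v := W) _] at h'
      exact h'.le
    · subst hW
      have h := htS W (Finset.mem_filter.2 ⟨Finset.mem_univ _, hw⟩)
      simp only [Set.mem_ofPred_eq, ← map_sub, norm_algebraMap_completion] at h
      exact h
    · exact ht1 W (fun h => hW ((hmemP W).1 h)) fun h => hne (h ▸ hW₀ i)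
    · exact ht2 W fun h => hW ((hmemP W).1 h)
  choose t htP htS ht using hnear
  have hclose : ∀ v ∈ P, CloseAt v (c v) (Y v) t := fun v hv i W hW => htP i v hv W hW
  have hne : aff w₀ fw b t ≠ 0 :=
    ((hgood v₁ (by simp [P]) t (hclose _ (by simp [P]))).2 hv₁S).2.2 rfl
  refine ⟨-aff u₀ fu b t / aff w₀ fw b t, fun v hv => (hgood v (by simp [P, hv]) t (hclose _ (by simp [P, hv]))).1 hv,
    fun w hw => (hgoodi w hw t fun i W hW => htS i w hw W hW).2, fun i W hlt => ?_⟩
  by_cases hS : below k W ∈ Sf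
  · exact Or.inl hS
  refine Or.inr ?_
  by_cases h0 : below k W = v₀
  · exact hsplit i W h0
  have hwle : (below k W).valuation k (aff w₀ fw b t) ≤ 1 := by
    by_cases hP : below k W ∈ P
    · exact ((hgood _ hP t (hclose _ hP)).2 hS).1
    · refine hint _ hS (fun h => hP (by simp [P, h])) t fun j V hV => (ht j V (hV ▸ hP)).1 ?_
      rw [hV]; exact h0
  have hsolve := hsol (fun j => t j / b j) i
  rw [show u₀ + ∑ j, fu j (t j / b j) = aff u₀ fu b t from rfl,
    show w₀ + ∑ j, fw j (t j / b j) = aff w₀ fw b t from rfl, Algebra.smul_def] at hsolve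
  have hw' : algebraMap k (kf i) (aff w₀ fw b t) ≠ 0 := by simpa using hne
  have hta : algebraMap k (kf i) (-aff u₀ fu b t / aff w₀ fw b t) - a i =
      -(t i / b i) / algebraMap k (kf i) (aff w₀ fw b t) := by
    rw [hsolve, map_div₀, map_neg]
    field_simp
    ring
  rw [hta, map_div₀, Valuation.map_neg, map_div₀, hSb i W hS, div_one,
    div_lt_one₀ (zero_lt_iff.2 ((Valuation.ne_zero_iff _).2 hw'))] at hlt
  have ht1 : W.valuation (kf i) (t i) < 1 := hlt.trans_le ((valuation_algebraMap_le_one W _).2 hwle)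
  by_cases hP : below k W ∈ P
  · exact absurd (((hgood _ hP t (hclose _ hP)).2 hS).2.1 i W rfl) ht1.ne
  · exact (ht i W hP).2.resolve_left ht1.ne

end Groth.Agent.NormPlace
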