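import Groth.Agent.NormPlace.Hensel

/-!
# Places where a value of the minimal polynomial vanishes simply give degree-one places
-/

set_option autoImplicit false

noncomputable section

open NumberField IsDedekindDomain Polynomial

universe u v

namespace Groth.Agent.NormPlace

variable {k : Type u} [Field k] [NumberField k]

local notation "Plc" => HeightOneSpectrum (NumberField.RingOfIntegers k)

/-- The valuation ring of `k` at `v`. -/
abbrev ValRing (v : HeightOneSpectrum (NumberField.RingOfIntegers k)) : ValuationSubring k :=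
  (v.valuation k).valuationSubring

theorem mem_valRing (v : Plc) (x : k) : x ∈ ValRing v ↔ v.valuation k x ≤ 1 := Iff.rfl

theorem eval_le_one (v : Plc) (p : k[X]) (hp : ∀ i, v.valuation k (p.coeff i) ≤ 1) (s : k)
    (hs : v.valuation k s ≤ 1) : v.valuation k (p.eval s) ≤ 1 := by
  rw [eval_eq_sum_range]
  refine Valuation.map_sum_le _ fun i _ => ?_
  rw [map_mul, map_pow]
  exact mul_le_one' (hp i) (pow_le_one' hs i)

theorem sub_le_eval_sub (v : Plc) (p : k[X]) (hp : ∀ i, v.valuation k (p.coeff i) ≤ 1) (s r : k)
    (hs : v.valuation k s ≤ 1) (hr : v.valuation k r ≤ 1) :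
    v.valuation k (p.eval s - p.eval r) ≤ v.valuation k (s - r) := by
  rw [eval_eq_sum_range, eval_eq_sum_range, ← Finset.sum_sub_distrib]
  refine Valuation.map_sum_le _ fun i _ => ?_
  rw [← mul_sub, map_mul, ← geom_sum₂_mul, map_mul]
  refine (mul_le_mul' (hp i) (mul_le_mul' (b := 1) ?_ le_rfl)).trans (by simp)
  refine Valuation.map_sum_le _ fun j _ => ?_
  rw [map_mul, map_pow, map_pow]
  exact mul_le_one' (pow_le_one' hs _) (pow_le_one' hr _)

/-- A simple approximate root of the minimal polynomial of a generator gives an embedding into the completion. -/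
theorem exists_embedding (v : Plc) {L : Type v} [Field L] [Algebra k L] [FiniteDimensional k L]
    (x : L) (hx : IntermediateField.adjoin k {x} = ⊤) (G : (ValRing v)[X]) (hG : G.Monic)
    (hmin : minpoly k x = G.map (ValRing v).subtype) (s : k) (hs : v.valuation k s ≤ 1)
    (h1 : v.valuation k ((minpoly k x).eval s) < 1)
    (h2 : v.valuation k ((minpoly k x).derivative.eval s) = 1) :
    Nonempty (L →ₐ[k] v.adicCompletion k) := by
  have hcoe : ∀ a : k, Valued.v (algebraMap k (v.adicCompletion k) a) = v.valuation k a := fun a =>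
    HeightOneSpectrum.adicCompletion.valued_coe (K := k) (v := v) a
  let ι : ValRing v →+* v.adicCompletionIntegers k :=
    { toFun := fun a => ⟨algebraMap k (v.adicCompletion k) a.1,
        (HeightOneSpectrum.mem_adicCompletionIntegers _ _ _).2 ((hcoe _).trans_le a.2)⟩
      map_one' := Subtype.ext (map_one _)
      map_zero' := Subtype.ext (map_zero _)
      map_mul' := fun a b => Subtype.ext (map_mul _ _ _)
      map_add' := fun a b => Subtype.ext (map_add _ _ _) }
  have hι : ((v.adicCompletionIntegers k).subtype).comp ι =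
      (algebraMap k (v.adicCompletion k)).comp (ValRing v).subtype := rfl
  have hev : ∀ p : (ValRing v)[X], (((p.map ι).eval (ι ⟨s, hs⟩) : v.adicCompletionIntegers k) : v.adicCompletion k) =
      algebraMap k _ ((p.map (ValRing v).subtype).eval s) := fun p => by
    rw [eval_map, eval₂_at_apply,
      show ((p.map (ValRing v).subtype).eval s) = (ValRing v).subtype (p.eval ⟨s, hs⟩) from
        eval_map_apply (f := (ValRing v).subtype) (p := p) ⟨s, hs⟩]
    rfl
  have hmax : ∀ y : v.adicCompletionIntegers k,
      y ∈ IsLocalRing.maximalIdeal _ ↔ Valued.v (y : v.adicCompletion k) < 1 := fun y => by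
    rw [IsLocalRing.mem_maximalIdeal, mem_nonunits_iff,
      HeightOneSpectrum.adicCompletionIntegers.isUnit_iff_valued_eq_one]
    exact ⟨fun h => lt_of_le_of_ne y.2 h, fun h => h.ne⟩
  obtain ⟨r, hr⟩ := exists_root v (G.map ι) (hG.map ι) (ι ⟨s, hs⟩)
    ((hmax _).2 (by rw [hev, hcoe, ← hmin]; exact h1))
    (by rw [hmax, derivative_map, hev, hcoe, ← derivative_map, ← hmin, h2]; simp)
  have hroot : aeval (r : v.adicCompletion k) (minpoly k x) = 0 := by
    rw [aeval_def, hmin, eval₂_map, ← hι]
    have h := congr_arg (v.adicCompletionIntegers k).subtype hr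
    rw [eval_map, hom_eval₂, map_zero] at h
    exact h
  have hxi : IsIntegral k x := IsIntegral.of_finite k x
  let e : L ≃ₐ[k] IntermediateField.adjoin k {x} :=
    ((IntermediateField.equivOfEq hx).trans IntermediateField.topEquiv).symm
  exact ⟨((IntermediateField.adjoin.powerBasis hxi).lift (r : v.adicCompletion k) (by
    rw [IntermediateField.adjoin.powerBasis_gen, IntermediateField.minpoly_gen]
    exact hroot)).comp e.toAlgHom⟩

/-- A monic polynomial takes a unit value on any set of incongruent points larger than its degree. -/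
theorem exists_unit_value (v : Plc) : ∀ (n : ℕ) (G : (ValRing v)[X]), G.Monic → G.natDegree = n →
    ∀ S : Finset (ValRing v), (∀ a ∈ S, ∀ b ∈ S, a ≠ b → IsUnit (a - b)) → n < S.card →
      ∃ r ∈ S, IsUnit (G.eval r) := by
  classical
  intro n
  induction n with
  | zero =>
    intro G hG hd S _ hS
    obtain ⟨r, hr⟩ := Finset.card_pos.1 hS
    exact ⟨r, hr, by rw [hG.natDegree_eq_zero.1 hd]; simp⟩
  | succ n ih =>
    intro G hG hd S hdiff hS
    obtain ⟨r, hr⟩ := Finset.card_pos.1 (lt_of_le_of_lt (Nat.zero_le _) hS)
    by_cases hu : IsUnit (G.eval r)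
    · exact ⟨r, hr, hu⟩
    let q := G /ₘ (X - C r)
    have hq : q.natDegree = n := by
      simp [q, natDegree_divByMonic G (monic_X_sub_C r), hd]
    have hdeg : (X - C r).degree ≤ G.degree := by
      rw [degree_X_sub_C, degree_eq_natDegree hG.ne_zero, hd]
      exact_mod_cast Nat.le_add_left 1 n
    have hqm : q.Monic := by
      rw [Monic, leadingCoeff_divByMonic_of_monic (monic_X_sub_C r) hdeg, hG]
    obtain ⟨r', hr', hu'⟩ := ih q hqm hq (S.erase r)
      (fun a ha b hb => hdiff a (Finset.mem_of_mem_erase ha) b (Finset.mem_of_mem_erase hb))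
      (by rw [Finset.card_erase_of_mem hr]; omega)
    refine ⟨r', Finset.mem_of_mem_erase hr', ?_⟩
    have h := congr_arg (Polynomial.eval r') (modByMonic_add_div G (q := X - C r))
    rw [modByMonic_X_sub_C_eq_C_eval] at h
    simp only [eval_add, eval_C, eval_mul, eval_sub, eval_X] at h
    rw [← h]
    exact (IsLocalRing.isUnit_or_isUnit_of_isUnit_add
      (a := G.eval r + (r' - r) * q.eval r') (b := -G.eval r) (by
        rw [add_neg_cancel_comm]
        exact (hdiff r' (Finset.mem_of_mem_erase hr') r hr (Finset.ne_of_mem_erase hr')).mul hu')).resolve_right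
      (fun h => hu (by simpa using h.neg))

theorem isUnit_valRing_iff (v : Plc) (a : ValRing v) : IsUnit a ↔ v.valuation k (a : k) = 1 := by
  constructor
  · rintro ⟨w, rfl⟩
    refine le_antisymm w.1.2 ?_
    have h := congr_arg (fun a : ValRing v => v.valuation k (a : k)) w.mul_inv
    simp only [MulMemClass.coe_mul, map_mul, OneMemClass.coe_one, map_one] at h
    exact h.symm.le.trans (mul_le_of_le_one_right' w⁻¹.1.2)
  · intro h
    have h0 : (a : k) ≠ 0 := fun h0 => by simp [h0] at h
    exact IsUnit.of_mul_eq_one (a := a) ⟨(a : k)⁻¹, by rw [mem_valRing, map_inv₀, h, inv_one]⟩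
      (Subtype.ext (mul_inv_cancel₀ h0))

/-- At a place of large norm a monic integral polynomial has a unit value at an integral point. -/
theorem exists_nonroot (v : Plc) (G : (ValRing v)[X]) (hG : G.Monic)
    (hn : G.natDegree < Ideal.absNorm v.asIdeal) :
    ∃ r : k, v.valuation k r ≤ 1 ∧ v.valuation k ((G.map (ValRing v).subtype).eval r) = 1 := by
  classical
  have := Ideal.finiteQuotientOfFreeOfNeBot v.asIdeal v.ne_bot
  have := Fintype.ofFinite (NumberField.RingOfIntegers k ⧸ v.asIdeal)
  let f : NumberField.RingOfIntegers k ⧸ v.asIdeal → ValRing v := fun q =>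
    ⟨algebraMap _ k q.out, v.valuation_le_one q.out⟩
  have hsep : ∀ a b, a ≠ b → IsUnit (f a - f b) := fun a b hab => by
    rw [isUnit_valRing_iff]
    show v.valuation k (algebraMap _ k a.out - algebraMap _ k b.out) = 1
    rw [← map_sub, HeightOneSpectrum.valuation_of_algebraMap]
    refine le_antisymm (v.intValuation_le_one _) (not_lt.1 fun h => hab ?_)
    rw [HeightOneSpectrum.intValuation_lt_one_iff_mem, ← Ideal.Quotient.eq] at h
    simpa using h
  have hinj : Function.Injective f := fun a b hab => by
    by_contra hne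
    exact (hsep a b hne).ne_zero (sub_eq_zero.2 hab)
  obtain ⟨r, -, hu⟩ := exists_unit_value v _ G hG rfl (Finset.univ.image f) (by
    simp only [Finset.mem_image, Finset.mem_univ, true_and, forall_exists_index, forall_apply_eq_imp_iff]
    exact fun a b hne => hsep a b fun h => hne (h ▸ rfl)) (by
    rw [Finset.card_image_of_injective _ hinj, Finset.card_univ]
    rwa [Ideal.absNorm_apply, Submodule.cardQuot_apply, Nat.card_eq_fintype_card] at hn)
  refine ⟨r, r.2, ?_⟩
  rw [show (r : k) = (ValRing v).subtype r from rfl, eval_map_apply]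
  exact (isUnit_valRing_iff v _).1 hu

end Groth.Agent.NormPlace
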