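import Groth.Agent.NormPlace.Coord
import Groth.Agent.NormPlace.Split

/-!
# Embeddings congruent modulo an unramified prime, Frobenius and completely decomposed embeddings
-/

set_option autoImplicit false

noncomputable section

open NumberField IsDedekindDomain Polynomial
open scoped IntermediateField

universe u

namespace Groth.Agent.NormPlace

variable {K L M : Type u} [Field K] [NumberField K] [Field L] [NumberField L] [Field M] [NumberField M]
  [Algebra K L] [Algebra K M]

omit [NumberField K] [NumberField L] in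
theorem valuation_ringHom_le_one (P : HeightOneSpectrum (NumberField.RingOfIntegers M)) (φ : L →ₐ[K] M)
    (x : NumberField.RingOfIntegers L) : P.valuation M (φ x) ≤ 1 :=
  P.valuation_le_one (RingOfIntegers.mapRingHom φ.toRingHom x)

theorem below_self {F : Type u} [Field F] [NumberField F] (V : HeightOneSpectrum (NumberField.RingOfIntegers F)) :
    below F V = V := HeightOneSpectrum.ext (by
  refine Ideal.ext fun r => ?_
  simp only [below, HeightOneSpectrum.under_asIdeal, Ideal.under, Ideal.mem_comap]
  convert Iff.rfl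
  exact NumberField.RingOfIntegers.ext rfl)

/-- The place of `L` cut out by an embedding and a place of `M`. -/
theorem exists_comap (w : HeightOneSpectrum (NumberField.RingOfIntegers K))
    (P : HeightOneSpectrum (NumberField.RingOfIntegers M)) (hP : below K P = w) (φ : L →ₐ[K] M) :
    ∃ Q : HeightOneSpectrum (NumberField.RingOfIntegers L), below K Q = w ∧
      ∀ x : NumberField.RingOfIntegers L, x ∈ Q.asIdeal ↔ P.valuation M (φ x) < 1 := by
  let f := RingOfIntegers.mapRingHom φ.toRingHom
  have hmem : ∀ r : NumberField.RingOfIntegers K, algebraMap _ (NumberField.RingOfIntegers L) r ∈ P.asIdeal.comap f ↔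
      r ∈ w.asIdeal := fun r => by
    rw [← hP, Ideal.mem_comap, show f (algebraMap _ _ r) = algebraMap _ (NumberField.RingOfIntegers M) r from
      NumberField.RingOfIntegers.ext (φ.commutes _)]
    rfl
  have hne : P.asIdeal.comap f ≠ ⊥ := fun h => by
    obtain ⟨r, hr, hr0⟩ := Submodule.exists_mem_ne_zero_of_ne_bot w.ne_bot
    have h1 := (hmem r).2 hr
    rw [h, Ideal.mem_bot] at h1
    exact hr0 (FaithfulSMul.algebraMap_injective _ _ (h1.trans (map_zero _).symm))
  refine ⟨⟨_, Ideal.IsPrime.comap f, hne⟩, HeightOneSpectrum.ext (Ideal.ext fun r => hmem r), fun x => ?_⟩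
  exact (P.valuation_lt_one_iff_mem (K := M) (f x)).symm

/-- Embeddings congruent modulo a place over an unramified place are equal. -/
theorem eq_of_congr (w : HeightOneSpectrum (NumberField.RingOfIntegers K))
    (hram : ∀ Q : HeightOneSpectrum (NumberField.RingOfIntegers L), below K Q = w →
      Q.asIdeal.ramificationIdx (NumberField.RingOfIntegers K) = 1)
    (P : HeightOneSpectrum (NumberField.RingOfIntegers M)) (hP : below K P = w) (φ ψ : L →ₐ[K] M)
    (h : ∀ x : NumberField.RingOfIntegers L, P.valuation M (φ x - ψ x) < 1) : φ = ψ := by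
  classical
  obtain ⟨Q, hQ, hQmem⟩ := exists_comap w P hP φ
  have hψlt : ∀ y : NumberField.RingOfIntegers L, y ∈ Q.asIdeal → P.valuation M (ψ y) < 1 := fun y hy => by
    have h1 := Valuation.map_sub_lt _ ((hQmem y).1 hy) (h y)
    rwa [sub_sub_cancel] at h1
  obtain ⟨π, hπ⟩ := w.intValuation_exists_uniformizer
  have hπK : w.valuation K (algebraMap _ K π) = WithZero.exp (-1 : ℤ) := by
    rw [HeightOneSpectrum.valuation_of_algebraMap, hπ]
  have hπQ : Q.valuation L (algebraMap K L (algebraMap _ K π)) = WithZero.exp (-1 : ℤ) := by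
    have : Q.asIdeal.LiesOver w.asIdeal := (liesOver_iff Q w).2 hQ
    rw [← HeightOneSpectrum.valuation_liesOver L w Q,
      Ideal.ramificationIdx'_eq_ramificationIdx w.asIdeal Q.asIdeal w.ne_bot, hram Q hQ, pow_one, hπK]
  have hπP : P.valuation M (algebraMap K M (algebraMap _ K π)) ≤ WithZero.exp (-1 : ℤ) := by
    obtain ⟨e, he, he'⟩ := valuation_algebraMap P (algebraMap (NumberField.RingOfIntegers K) K π)
    rw [he', hP, hπK]
    exact pow_le_of_le_one zero_le (by rw [← WithZero.exp_zero]; exact WithZero.exp_le_exp.2 (by norm_num)) he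
  -- the residue field at `Q`
  have := Ideal.finiteQuotientOfFreeOfNeBot Q.asIdeal Q.ne_bot
  have := Fintype.ofFinite (NumberField.RingOfIntegers L ⧸ Q.asIdeal)
  let : Field (NumberField.RingOfIntegers L ⧸ Q.asIdeal) := Ideal.Quotient.field Q.asIdeal
  let q := Fintype.card (NumberField.RingOfIntegers L ⧸ Q.asIdeal)
  have hq : P.valuation M (q : M) < 1 := by
    have h1 : (q : NumberField.RingOfIntegers L) ∈ Q.asIdeal := by
      rw [← Ideal.Quotient.eq_zero_iff_mem, map_natCast]
      exact Nat.cast_card_eq_zero _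
    have h2 := (hQmem _).1 h1
    simpa using h2
  have key : ∀ n : ℕ, ∀ x : NumberField.RingOfIntegers L,
      P.valuation M (φ x - ψ x) ≤ WithZero.exp (-((n : ℤ) + 1)) := by
    intro n
    induction n with
    | zero =>
      intro x
      rcases eq_or_ne (P.valuation M (φ x - ψ x)) 0 with h0 | h0
      · simp [h0]
      rw [← WithZero.log_le_iff_le_exp h0]
      have hlog := WithZero.log_lt_log h0 one_ne_zero |>.2 (h x)
      rw [WithZero.log_one] at hlog
      omega
    | succ n ih =>
      have hstep : ∀ a b : WithZero (Multiplicative ℤ), a ≤ WithZero.exp (-1 : ℤ) → b ≤ WithZero.exp (-((n : ℤ) + 1)) →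
          a * b ≤ WithZero.exp (-(((n + 1 : ℕ) : ℤ) + 1)) := fun a b ha hb => by
        refine (mul_le_mul' ha hb).trans (le_of_eq ?_)
        rw [← WithZero.exp_add]
        congr 1
        omega
      have hlt1 : ∀ a : WithZero (Multiplicative ℤ), a < 1 → a ≤ WithZero.exp (-1 : ℤ) := fun a ha => by
        rcases eq_or_ne a 0 with h0 | h0
        · simp [h0]
        rw [← WithZero.log_le_iff_le_exp h0]
        have hlog := WithZero.log_lt_log h0 one_ne_zero |>.2 ha
        rw [WithZero.log_one] at hlog
        omega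
      -- elements of `Q`
      have hQel : ∀ y : NumberField.RingOfIntegers L, y ∈ Q.asIdeal →
          P.valuation M (φ y - ψ y) ≤ WithZero.exp (-(((n + 1 : ℕ) : ℤ) + 1)) := by
        intro y hy
        obtain ⟨s, hs, z, hz⟩ := exists_mul_integral (k := L) Q ((y : L) / algebraMap K L (algebraMap _ K π))
          fun V hV => by
            rw [below_self] at hV
            subst hV
            rw [map_div₀, hπQ, div_le_one₀ (zero_lt_iff.2 WithZero.exp_ne_zero)]
            exact hlt1 _ ((V.valuation_lt_one_iff_mem (K := L) y).2 hy)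
        have hπ0 : algebraMap K L (algebraMap _ K π) ≠ 0 := fun h0 => by
          rw [h0, map_zero] at hπQ; exact WithZero.exp_ne_zero hπQ.symm
        rw [Algebra.algebraMap_self, RingHom.id_apply] at hz
        have hsy : (s : L) * (y : L) = algebraMap K L (algebraMap _ K π) * (z : L) := by
          rw [show ((z : NumberField.RingOfIntegers L) : L) = algebraMap _ L z from rfl, ← hz]
          show algebraMap _ L s * (y : L) = _
          field_simp
        have h1 : φ (s : L) * (φ y - ψ y) =
            algebraMap K M (algebraMap _ K π) * (φ z - ψ z) - ψ y * (φ (s : L) - ψ (s : L)) := by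
          have e1 := congr_arg φ hsy
          have e2 := congr_arg ψ hsy
          simp only [map_mul, AlgHom.commutes] at e1 e2
          linear_combination e1 - e2
        have hs1 : P.valuation M (φ (s : L)) = 1 :=
          le_antisymm (valuation_ringHom_le_one P φ s) (not_lt.1 fun hlt => hs ((hQmem s).2 hlt))
        have h2 := congr_arg (P.valuation M) h1
        rw [map_mul, hs1, one_mul] at h2
        rw [h2]
        refine (Valuation.map_sub _ _ _).trans (max_le ?_ ?_) <;> rw [map_mul]
        · exact hstep _ _ hπP (ih z)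
        · exact hstep _ _ (hlt1 _ (hψlt y hy)) (ih s)
      intro x
      -- `x` is a `q`-th power modulo `Q`
      have hy : x - x ^ q ∈ Q.asIdeal := by
        rw [← Ideal.Quotient.eq, map_pow, FiniteField.pow_card]
      have hpow : P.valuation M (φ ((x ^ q : NumberField.RingOfIntegers L) : L) -
          ψ ((x ^ q : NumberField.RingOfIntegers L) : L)) ≤ WithZero.exp (-(((n + 1 : ℕ) : ℤ) + 1)) := by
        simp only [map_pow]
        rw [← geom_sum₂_mul, map_mul]
        refine hstep _ _ (hlt1 _ ?_) (ih x)
        have hsum : ∑ i ∈ Finset.range q, φ (x : L) ^ i * ψ (x : L) ^ (q - 1 - i) =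
            (∑ i ∈ Finset.range q, φ (x : L) ^ i * (ψ (x : L) ^ (q - 1 - i) - φ (x : L) ^ (q - 1 - i))) +
              (q : M) * φ (x : L) ^ (q - 1) := by
          have hterm : ∀ i ∈ Finset.range q, φ (x : L) ^ i * φ (x : L) ^ (q - 1 - i) = φ (x : L) ^ (q - 1) :=
            fun i hi => by rw [← pow_add]; congr 1; simp only [Finset.mem_range] at hi; omega
          simp only [mul_sub, Finset.sum_sub_distrib, Finset.sum_congr rfl hterm, Finset.sum_const,
            Finset.card_range, nsmul_eq_mul]
          ring
        rw [hsum]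
        refine Valuation.map_add_lt _ (Valuation.map_sum_lt _ one_ne_zero fun i _ => ?_) ?_
        · rw [map_mul, map_pow, ← geom_sum₂_mul, map_mul]
          refine (mul_le_of_le_one_left' (pow_le_one' (valuation_ringHom_le_one P φ x) _)).trans_lt ?_
          refine lt_of_le_of_lt (mul_le_of_le_one_left' (Valuation.map_sum_le _ fun j _ => ?_)) ?_
          · rw [map_mul, map_pow, map_pow]
            exact mul_le_one' (pow_le_one' (valuation_ringHom_le_one P ψ x) _)
              (pow_le_one' (valuation_ringHom_le_one P φ x) _)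
          · rw [← Valuation.map_neg, neg_sub]
            exact h x
        · rw [map_mul, map_pow]
          exact (mul_le_of_le_one_right' (pow_le_one' (valuation_ringHom_le_one P φ x) _)).trans_lt hq
      have h3 : φ (x : L) - ψ (x : L) =
          (φ ((x ^ q : NumberField.RingOfIntegers L) : L) - ψ ((x ^ q : NumberField.RingOfIntegers L) : L)) +
            (φ ((x - x ^ q : NumberField.RingOfIntegers L) : L) - ψ ((x - x ^ q : NumberField.RingOfIntegers L) : L)) := by
        simp only [map_sub, map_pow]
        ring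
      rw [h3]
      exact Valuation.map_add_le _ hpow (hQel _ hy)
  have heq : ∀ x : NumberField.RingOfIntegers L, φ x = ψ x := fun x => by
    by_contra hne
    have h0 : P.valuation M (φ x - ψ x) ≠ 0 := (Valuation.ne_zero_iff _).2 (sub_ne_zero.2 hne)
    have h1 := key (-(WithZero.log (P.valuation M (φ x - ψ x)))).toNat x
    rw [← WithZero.log_le_iff_le_exp h0] at h1
    omega
  refine AlgHom.ext fun z => ?_
  obtain ⟨a, b, -, rfl⟩ := IsFractionRing.div_surjective (A := NumberField.RingOfIntegers L) z
  rw [map_div₀, map_div₀]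
  exact congr_arg₂ (· / ·) (heq a) (heq b)

/-- Automorphisms of a normal extension fixing `K` pointwise have `O_K` as integral invariants. -/
theorem isInvariant_ringOfIntegers [IsGalois K M] :
    Algebra.IsInvariant (NumberField.RingOfIntegers K) (NumberField.RingOfIntegers M) (M ≃ₐ[K] M) := by
  have : FiniteDimensional K M := Module.Finite.of_restrictScalars_finite ℚ K M
  refine ⟨fun b hb => ?_⟩
  have hfix : (b : M) ∈ (⊥ : IntermediateField K M) := by
    have htop : IntermediateField.fixedField (⊤ : Subgroup (M ≃ₐ[K] M)) = ⊥ :=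
      ((IsGalois.tfae (F := K) (E := M)).out 0 1).mp (inferInstance : IsGalois K M)
    rw [← htop]
    rintro ⟨g, -⟩
    exact congr_arg (fun t : NumberField.RingOfIntegers M => (t : M)) (hb g)
  obtain ⟨c, hc⟩ := IntermediateField.mem_bot.1 hfix
  have hci : IsIntegral ℤ c := by
    have h : IsIntegral ℤ (algebraMap K M c) := by rw [hc]; exact NumberField.RingOfIntegers.isIntegral_coe b
    exact (isIntegral_algHom_iff (IsScalarTower.toAlgHom ℤ K M) (algebraMap K M).injective).1 h
  exact ⟨⟨c, hci⟩, NumberField.RingOfIntegers.ext hc⟩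

omit [NumberField K] [NumberField M] in
theorem smulCommClass_ringOfIntegers :
    SMulCommClass (M ≃ₐ[K] M) (NumberField.RingOfIntegers K) (NumberField.RingOfIntegers M) :=
  ⟨fun g r m => NumberField.RingOfIntegers.ext (by
    rw [Algebra.smul_def, Algebra.smul_def]
    show g ((algebraMap _ (NumberField.RingOfIntegers M) r : NumberField.RingOfIntegers M) * m : M) =
      (algebraMap _ (NumberField.RingOfIntegers M) r : M) * g (m : M)
    rw [map_mul, show g (algebraMap _ (NumberField.RingOfIntegers M) r : M) =
      (algebraMap _ (NumberField.RingOfIntegers M) r : M) from g.commutes _])⟩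

/-- A Frobenius substitution at a place of a Galois extension. -/
theorem exists_frobenius [IsGalois K M] (P : HeightOneSpectrum (NumberField.RingOfIntegers M)) :
    ∃ σ : M ≃ₐ[K] M, ∀ x : NumberField.RingOfIntegers M, P.valuation M
      (σ x - (x : M) ^ Nat.card (NumberField.RingOfIntegers K ⧸ (below K P).asIdeal)) < 1 := by
  have : FiniteDimensional K M := Module.Finite.of_restrictScalars_finite ℚ K M
  have := isInvariant_ringOfIntegers (K := K) (M := M)
  have := smulCommClass_ringOfIntegers (K := K) (M := M)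
  have := Ideal.finiteQuotientOfFreeOfNeBot P.asIdeal P.ne_bot
  obtain ⟨σ, hσ⟩ := IsArithFrobAt.exists_of_isInvariant (NumberField.RingOfIntegers K) (M ≃ₐ[K] M) P.asIdeal
  refine ⟨σ, fun x => ?_⟩
  have h := (P.valuation_lt_one_iff_mem (K := M) _).2 (hσ x)
  convert h using 2
  simp [map_sub, map_pow]
  rfl

/-- An element congruent to its `q`-th power is congruent to an element of `O_K`. -/
theorem exists_congr_base (P : HeightOneSpectrum (NumberField.RingOfIntegers M)) (x : NumberField.RingOfIntegers M)
    (hx : P.valuation M ((x : M) ^ Nat.card (NumberField.RingOfIntegers K ⧸ (below K P).asIdeal) - x) < 1) :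
    ∃ r : NumberField.RingOfIntegers K, P.valuation M ((x : M) - algebraMap K M r) < 1 := by
  classical
  have := Ideal.finiteQuotientOfFreeOfNeBot (below K P).asIdeal (below K P).ne_bot
  have := Fintype.ofFinite (NumberField.RingOfIntegers K ⧸ (below K P).asIdeal)
  have := Ideal.finiteQuotientOfFreeOfNeBot P.asIdeal P.ne_bot
  let : Field (NumberField.RingOfIntegers M ⧸ P.asIdeal) := Ideal.Quotient.field P.asIdeal
  let : Field (NumberField.RingOfIntegers K ⧸ (below K P).asIdeal) := Ideal.Quotient.field _
  let ι : NumberField.RingOfIntegers K ⧸ (below K P).asIdeal →+* NumberField.RingOfIntegers M ⧸ P.asIdeal :=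
    Ideal.quotientMap P.asIdeal (algebraMap _ _) le_rfl
  let q := Fintype.card (NumberField.RingOfIntegers K ⧸ (below K P).asIdeal)
  have hq : 1 < q := Fintype.one_lt_card
  let p : Polynomial (NumberField.RingOfIntegers M ⧸ P.asIdeal) := X ^ q - X
  have hp : p ≠ 0 := FiniteField.X_pow_card_sub_X_ne_zero _ hq
  have hroots : (Finset.univ.image ι).val = p.roots := by
    refine Multiset.eq_of_le_of_card_le ((Multiset.le_iff_subset (Finset.univ.image ι).nodup).2 fun t ht => ?_) ?_
    · obtain ⟨r, -, rfl⟩ := Finset.mem_image.1 ht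
      rw [mem_roots hp]
      simp [p, q, ← map_pow, FiniteField.pow_card]
    · refine (p.card_roots').trans ?_
      rw [FiniteField.X_pow_card_sub_X_natDegree_eq _ hq, Finset.card_val,
        Finset.card_image_of_injective _ ι.injective, Finset.card_univ]
  have hxr : Ideal.Quotient.mk P.asIdeal x ∈ p.roots := by
    rw [mem_roots hp]
    rw [Nat.card_eq_fintype_card] at hx
    have hmem : x ^ q - x ∈ P.asIdeal := (P.valuation_lt_one_iff_mem (K := M) _).1 (by simpa [q] using hx)
    simp only [p, IsRoot.def, eval_sub, eval_pow, eval_X, ← map_pow, ← map_sub]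
    exact Ideal.Quotient.eq_zero_iff_mem.2 hmem
  rw [← hroots] at hxr
  obtain ⟨r, -, hr⟩ := Finset.mem_image.1 hxr
  obtain ⟨r, rfl⟩ := Ideal.Quotient.mk_surjective r
  refine ⟨r, ?_⟩
  have hmem : x - algebraMap _ (NumberField.RingOfIntegers M) r ∈ P.asIdeal := Ideal.Quotient.eq.1 hr.symm
  exact (P.valuation_lt_one_iff_mem (K := M) _).2 hmem

/-- An embedding with residues in the base residue field, alone over its place, gives an embedding into the completion. -/
theorem exists_embedding_completion (w : HeightOneSpectrum (NumberField.RingOfIntegers K))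
    (P : HeightOneSpectrum (NumberField.RingOfIntegers M)) (hP : below K P = w)
    (hsplit : ∀ z : L, ((minpoly K z).map (algebraMap K M)).Splits) (φ₀ : L →ₐ[K] M)
    (hres : ∀ x : NumberField.RingOfIntegers L, ∃ r : NumberField.RingOfIntegers K,
      P.valuation M (φ₀ x - algebraMap K M r) < 1)
    (huniq : ∀ φ : L →ₐ[K] M, (∀ x : NumberField.RingOfIntegers L,
      P.valuation M (φ₀ x) < 1 → P.valuation M (φ x) < 1) → φ = φ₀) :
    Nonempty (L →ₐ[K] w.adicCompletion K) := by
  classical
  have : FiniteDimensional K L := Module.Finite.of_restrictScalars_finite ℚ K L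
  -- an integral element which is a unit under `φ₀` and vanishes under the others
  have hex : ∀ φ : L →ₐ[K] M, ∃ t : NumberField.RingOfIntegers L, φ ≠ φ₀ →
      P.valuation M (φ t) < 1 ∧ P.valuation M (φ₀ t) = 1 := fun φ => by
    by_cases hφ : φ = φ₀
    · exact ⟨0, fun h => absurd hφ h⟩
    obtain ⟨Q₀, -, hQ₀⟩ := exists_comap w P hP φ₀
    obtain ⟨Q, -, hQ⟩ := exists_comap w P hP φ
    have hne : ¬ Q.asIdeal ≤ Q₀.asIdeal := fun hle => by
      have heq := Q.isMaximal.eq_of_le Q₀.isPrime.ne_top hle
      exact hφ (huniq φ fun x hx => (hQ x).1 (heq ▸ (hQ₀ x).2 hx))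
    obtain ⟨t, ht, ht'⟩ := Set.not_subset.1 hne
    exact ⟨t, fun _ => ⟨(hQ t).1 ht,
      le_antisymm (valuation_ringHom_le_one P φ₀ t) (not_lt.1 fun hlt => ht' ((hQ₀ t).2 hlt))⟩⟩
  choose t ht using hex
  let θ : NumberField.RingOfIntegers L := ∏ φ ∈ (Finset.univ : Finset (L →ₐ[K] M)).erase φ₀, t φ
  have hθcoe : ∀ ψ : L →ₐ[K] M, ψ θ = ∏ φ ∈ (Finset.univ : Finset (L →ₐ[K] M)).erase φ₀, ψ (t φ) := fun ψ => by
    rw [show ((θ : NumberField.RingOfIntegers L) : L) = algebraMap _ L θ from rfl]
    simp only [θ, map_prod]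
  have hθ0 : P.valuation M (φ₀ θ) = 1 := by
    rw [hθcoe, map_prod]
    exact Finset.prod_eq_one fun φ hφ => (ht φ (Finset.ne_of_mem_erase hφ)).2
  have hθ1 : ∀ φ : L →ₐ[K] M, φ ≠ φ₀ → P.valuation M (φ θ) < 1 := fun φ hφ => by
    have hmem : φ ∈ (Finset.univ : Finset (L →ₐ[K] M)).erase φ₀ := Finset.mem_erase.2 ⟨hφ, Finset.mem_univ _⟩
    rw [hθcoe, map_prod, ← Finset.mul_prod_erase _ _ hmem]
    refine (mul_le_of_le_one_right' (Finset.prod_le_one' fun ψ _ => valuation_ringHom_le_one P φ _)).trans_lt ?_
    exact (ht φ hφ).1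
  have hdiff : ∀ φ : L →ₐ[K] M, φ ≠ φ₀ → P.valuation M (φ₀ θ - φ θ) = 1 := fun φ hφ => by
    rw [Valuation.map_sub_eq_of_lt_left _ (by rw [hθ0]; exact hθ1 φ hφ), hθ0]
  have hgen : K⟮(θ : L)⟯ = ⊤ := by
    rw [Field.primitive_element_iff_algHom_eq_of_eval K M hsplit (θ : L) φ₀]
    intro ψ hψ
    by_contra hne
    have h := hdiff ψ (Ne.symm hne)
    rw [hψ, sub_self, map_zero] at h
    exact zero_ne_one h
  obtain ⟨r, hr⟩ := hres θ
  let g := minpoly K (θ : L)
  have hint : IsIntegral (ValRing w) (θ : L) := (NumberField.RingOfIntegers.isIntegral_coe θ).tower_top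
  have hgG : g = (minpoly (ValRing w) (θ : L)).map (ValRing w).subtype :=
    minpoly.isIntegrallyClosed_eq_field_fractions K L hint
  let gM := g.map (algebraMap K M)
  have hgc : ∀ i, P.valuation M (gM.coeff i) ≤ 1 := fun i => by
    rw [show gM.coeff i = algebraMap K M (g.coeff i) from coeff_map _ _, valuation_algebraMap_le_one, hP,
      hgG, coeff_map]
    exact ((minpoly (ValRing w) (θ : L)).coeff i).2
  have hgm : gM.Monic := (minpoly.monic (IsIntegral.of_finite K _)).map _
  have hroots : ∀ y ∈ gM.roots, ∃ φ : L →ₐ[K] M, φ θ = y := fun y hy => by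
    have h : y ∈ (minpoly K (θ : L)).rootSet M := by
      rw [Polynomial.mem_rootSet_of_ne (minpoly.ne_zero (IsIntegral.of_finite K _)), aeval_def, ← eval_map]
      exact (mem_roots hgm.ne_zero).1 hy
    rwa [← (Algebra.IsAlgebraic.of_finite K L).range_eval_eq_rootSet_minpoly_of_splits M hsplit] at h
  have hmem : φ₀ (θ : L) ∈ gM.roots := by
    rw [mem_roots hgm.ne_zero, IsRoot.def, eval_map, ← aeval_def, aeval_algHom_apply, minpoly.aeval, map_zero]
  have hnd : gM.roots.Nodup := nodup_roots (Polynomial.Separable.map (Algebra.IsSeparable.isSeparable K (θ : L) : g.Separable))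
  have hd : P.valuation M (gM.derivative.eval (φ₀ θ)) = 1 := by
    rw [(hsplit (θ : L)).eval_root_derivative hgm hmem, map_multiset_prod, Multiset.map_map]
    refine Multiset.prod_eq_one fun v hv => ?_
    obtain ⟨y, hy, rfl⟩ := Multiset.mem_map.1 hv
    obtain ⟨hne, hy⟩ := (hnd.mem_erase_iff).1 hy
    obtain ⟨φ, rfl⟩ := hroots y hy
    exact hdiff φ fun h => hne (by rw [h])
  have hr1 : P.valuation M (algebraMap K M r) ≤ 1 :=
    (valuation_algebraMap_le_one P _).2 (HeightOneSpectrum.valuation_le_one _ r)
  have hrθ : P.valuation M (algebraMap K M r - φ₀ θ) < 1 := by rw [← Valuation.map_neg, neg_sub]; exact hr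
  have h1 : w.valuation K (g.eval (r : K)) < 1 := by
    rw [← hP, ← valuation_algebraMap_lt_one P, ← eval_map_apply]
    have h := (sub_le_eval_sub P gM hgc _ _ hr1 (valuation_ringHom_le_one P φ₀ θ)).trans_lt hrθ
    rwa [(mem_roots hgm.ne_zero).1 hmem, sub_zero] at h
  have h2 : w.valuation K (g.derivative.eval (r : K)) = 1 := by
    rw [← hP, ← valuation_algebraMap_eq_one P, ← eval_map_apply, ← derivative_map]
    have hgd : ∀ i, P.valuation M (gM.derivative.coeff i) ≤ 1 := fun i => by
      rw [coeff_derivative, map_mul]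
      refine mul_le_one' (hgc _) ?_
      have h : ((i : M) + 1) = (((i + 1 : ℕ) : NumberField.RingOfIntegers M) : M) := by push_cast; rfl
      rw [h]
      exact P.valuation_le_one _
    have h := (sub_le_eval_sub P gM.derivative hgd _ _ hr1 (valuation_ringHom_le_one P φ₀ θ)).trans_lt hrθ
    rw [Valuation.map_eq_of_sub_lt _ (by rw [hd]; exact h), hd]
  exact exists_embedding w (θ : L) hgen _ (minpoly.monic hint) hgG (r : K) (w.valuation_le_one r) h1 h2

end Groth.Agent.NormPlace
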