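import Groth.Agent.NormPlace.Main

/-!
# Places of degree one exist outside every finite set
-/

set_option autoImplicit false

noncomputable section

open NumberField IsDedekindDomain Polynomial
open scoped IntermediateField

universe u

namespace Groth.Agent.NormPlace

variable {k : Type u} [Field k] [NumberField k]

local notation "Plc" => HeightOneSpectrum (NumberField.RingOfIntegers k)

/-- A monic integral polynomial of positive degree with nonzero constant term vanishes modulo some place
outside a given finite set at an integral point. -/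
theorem exists_place_root (f : (NumberField.RingOfIntegers k)[X]) (hf : 0 < f.natDegree)
    (hf0 : f.coeff 0 ≠ 0) (T : Finset Plc) :
    ∃ v : Plc, v ∉ T ∧ ∃ s : NumberField.RingOfIntegers k, f.eval s ∈ v.asIdeal := by
  classical
  have hmod : ∃ m : NumberField.RingOfIntegers k, m ≠ 0 ∧ ∀ v ∈ T, m ∈ v.asIdeal := by
    choose π hπ hπ0 using fun v : Plc => Submodule.exists_mem_ne_zero_of_ne_bot v.ne_bot
    exact ⟨∏ v ∈ T, π v, Finset.prod_ne_zero_iff.2 fun v _ => hπ0 v,
      fun v hv => Ideal.mem_of_dvd _ (Finset.dvd_prod_of_mem π hv) (hπ v)⟩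
  obtain ⟨m, hm0, hm⟩ := hmod
  -- `h = f(a₀ m X) / a₀`
  let a₀ := f.coeff 0
  let h : (NumberField.RingOfIntegers k)[X] := 1 + C m * X * (f.divX.comp (C (a₀ * m) * X))
  have hfe : ∀ y, f.eval (a₀ * m * y) = a₀ * h.eval y := fun y => by
    conv_lhs => rw [← X_mul_divX_add f]
    simp only [h, eval_add, eval_mul, eval_comp, eval_C, eval_X, eval_one, a₀]
    ring
  by_contra hno
  push Not at hno
  have hunit : ∀ y, IsUnit (h.eval y) := fun y => by
    by_contra hu
    obtain ⟨M, hM, hmem⟩ := exists_max_ideal_of_mem_nonunits hu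
    have hM0 : M ≠ ⊥ := Ring.ne_bot_of_isMaximal_of_not_isField hM (NumberField.RingOfIntegers.not_isField k)
    let v : Plc := ⟨M, hM.isPrime, hM0⟩
    by_cases hv : v ∈ T
    · refine hM.ne_top ((Ideal.eq_top_iff_one _).2 ?_)
      have h1 : (1 : NumberField.RingOfIntegers k) = h.eval y - m * (y * (f.divX.comp (C (a₀ * m) * X)).eval y) := by
        simp [h]; ring
      rw [h1]
      exact sub_mem hmem (M.mul_mem_right _ (hm v hv))
    · exact hno v hv (a₀ * m * y) (by rw [hfe]; exact M.mul_mem_left _ hmem)
  -- the product of `h` over all embeddings takes only the values `±1` at natural numbers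
  let σ : (k →ₐ[ℚ] ℂ) → (NumberField.RingOfIntegers k →+* ℂ) := fun e =>
    e.toRingHom.comp (algebraMap (NumberField.RingOfIntegers k) k)
  have hσ : ∀ e, Function.Injective (σ e) := fun e =>
    e.toRingHom.injective.comp (IsFractionRing.injective (NumberField.RingOfIntegers k) k)
  let P : ℂ[X] := ∏ e, h.map (σ e)
  have hhd : 0 < h.natDegree := by
    have hd : f.divX ≠ 0 := fun h0 => by
      have := X_mul_divX_add f
      rw [h0, mul_zero, zero_add] at this
      rw [← this, natDegree_C] at hf
      exact lt_irrefl _ hf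
    have hc0 : f.divX.comp (C (a₀ * m) * X) ≠ 0 := by
      refine fun h0 => hd ?_
      rcases comp_eq_zero_iff.1 h0 with h1 | ⟨-, h2⟩
      · exact h1
      · have := congr_arg (Polynomial.coeff · 1) h2
        simp [mul_eq_zero, hm0, a₀, hf0] at this
    have hne : C m * X * (f.divX.comp (C (a₀ * m) * X)) ≠ 0 :=
      mul_ne_zero (mul_ne_zero (C_ne_zero.2 hm0) X_ne_zero) hc0
    simp only [h]
    rw [add_comm, ← C_1, natDegree_add_C, natDegree_mul (mul_ne_zero (C_ne_zero.2 hm0) X_ne_zero) hc0,
      natDegree_C_mul_X _ hm0]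
    omega
  have hPd : 0 < P.natDegree := by
    have hne : ∀ e, h.map (σ e) ≠ 0 := fun e => (Polynomial.map_ne_zero_iff (hσ e)).2 (fun h0 => by simp [h0] at hhd)
    rw [show P.natDegree = _ from natDegree_prod _ _ fun e _ => hne e]
    obtain ⟨e⟩ : Nonempty (k →ₐ[ℚ] ℂ) := ⟨IsAlgClosed.lift⟩
    exact lt_of_lt_of_le (by rwa [natDegree_map_eq_of_injective (hσ e)])
      (Finset.single_le_sum (f := fun e => (h.map (σ e)).natDegree) (fun _ _ => Nat.zero_le _) (Finset.mem_univ e))
  have hval : ∀ y : ℕ, P.eval (y : ℂ) = 1 ∨ P.eval (y : ℂ) = -1 := fun y => by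
    have hu := NumberField.isUnit_iff_norm.1 (hunit (y : NumberField.RingOfIntegers k))
    have hn : algebraMap ℚ ℂ (Algebra.norm ℚ ((h.eval (y : NumberField.RingOfIntegers k) : NumberField.RingOfIntegers k) : k)) =
        P.eval (y : ℂ) := by
      rw [Algebra.norm_eq_prod_embeddings, eval_prod]
      refine Finset.prod_congr rfl fun e _ => ?_
      rw [← map_natCast (σ e) y, eval_map_apply]
      rfl
    rw [← hn, ← RingOfIntegers.coe_norm]
    rcases abs_eq zero_le_one |>.1 hu with h1 | h1 <;> simp [h1]
  have hroots : {z : ℂ | P.eval z = 1 ∨ P.eval z = -1}.Finite := by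
    have h1 : (P - C 1) ≠ 0 := fun h0 => by
      rw [sub_eq_zero] at h0; rw [h0, natDegree_C] at hPd; exact lt_irrefl _ hPd
    have h2 : (P - C (-1)) ≠ 0 := fun h0 => by
      rw [sub_eq_zero] at h0; rw [h0, natDegree_C] at hPd; exact lt_irrefl _ hPd
    refine ((finite_setOfPred_isRoot h1).union (finite_setOfPred_isRoot h2)).subset ?_
    rintro z (hz | hz)
    · exact Or.inl (by simp [IsRoot, hz])
    · exact Or.inr (by simp [IsRoot, hz])
  exact Set.infinite_range_of_injective (f := fun y : ℕ => (y : ℂ)) Nat.cast_injective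
    (hroots.subset (Set.range_subset_iff.2 hval))

/-- Infinitely many places carry an embedding of a finite extension into the completion. -/
theorem exists_split_place {L : Type u} [Field L] [NumberField L] [Algebra k L] (T : Finset Plc) :
    ∃ v : Plc, v ∉ T ∧ Nonempty (L →ₐ[k] v.adicCompletion k) := by
  classical
  have : FiniteDimensional k L := Module.Finite.of_restrictScalars_finite ℚ k L
  obtain ⟨θ, hθi, hθ⟩ := exists_integral_generator (k := k) (L := L) inferInstance
  let g := minpoly k θ
  by_cases hg0 : g.coeff 0 = 0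
  · -- `θ = 0`, so `L = k`
    have hθ0 : θ = 0 := by
      rwa [minpoly.coeff_zero_eq_zero (IsIntegral.of_finite k θ)] at hg0
    have hsurj : Function.Surjective (algebraMap k L) := fun x => by
      have hx : x ∈ k⟮θ⟯ := by rw [hθ]; trivial
      rw [hθ0, IntermediateField.adjoin_zero] at hx
      exact IntermediateField.mem_bot.1 hx
    obtain ⟨v, hv, -⟩ := exists_place_root (k := k) (X + C 1) (by rw [natDegree_X_add_C]; exact one_pos) (by simp) T
    exact ⟨v, hv, ⟨(Algebra.ofId k _).comp
      (AlgEquiv.ofBijective (Algebra.ofId k L) ⟨(algebraMap k L).injective, hsurj⟩).symm.toAlgHom⟩⟩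
  have hint : IsIntegral (NumberField.RingOfIntegers k) θ := hθi.tower_top
  let f := minpoly (NumberField.RingOfIntegers k) θ
  have hfg : g = f.map (algebraMap (NumberField.RingOfIntegers k) k) :=
    minpoly.isIntegrallyClosed_eq_field_fractions k L hint
  obtain ⟨a, b, hab⟩ := (Algebra.IsSeparable.isSeparable k θ : g.Separable)
  let D : Finset Plc := ((finite_coeff a).union (finite_coeff b)).toFinset
  obtain ⟨v, hv, s, hs⟩ := exists_place_root f (minpoly.natDegree_pos hint)
    (fun h0 => hg0 (by rw [hfg, coeff_map, h0, map_zero])) (T ∪ D)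
  simp only [Finset.mem_union, not_or] at hv
  refine ⟨v, hv.1, ?_⟩
  have hnot := hv.2
  simp only [D, Set.Finite.mem_toFinset, Set.mem_union, Set.mem_ofPred_eq, not_or, not_exists, not_lt] at hnot
  let ρ : NumberField.RingOfIntegers k →+* ValRing v :=
    (algebraMap (NumberField.RingOfIntegers k) k).codRestrict (ValRing v).toSubring fun x => v.valuation_le_one x
  have hgG : g = (f.map ρ).map (ValRing v).subtype := by
    rw [hfg, Polynomial.map_map]; rfl
  have hgc : ∀ i, v.valuation k (g.coeff i) ≤ 1 := fun i => by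
    rw [hfg, coeff_map]; exact v.valuation_le_one _
  have hgd : ∀ i, v.valuation k (g.derivative.coeff i) ≤ 1 := fun i => by
    rw [hfg, derivative_map, coeff_map]; exact v.valuation_le_one _
  have hsk : v.valuation k (algebraMap _ k s) ≤ 1 := v.valuation_le_one s
  have h1 : v.valuation k (g.eval (algebraMap _ k s)) < 1 := by
    rw [hfg, eval_map_apply, v.valuation_lt_one_iff_mem]
    exact hs
  refine exists_embedding v θ hθ (f.map ρ) ((minpoly.monic hint).map ρ) hgG _ hsk h1 ?_
  have hev := congr_arg (Polynomial.eval (algebraMap _ k s)) hab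
  simp only [eval_add, eval_mul, eval_one] at hev
  refine le_antisymm (eval_le_one v _ hgd _ hsk) (not_lt.1 fun h2 => ?_)
  have : v.valuation k (1 : k) < 1 := by
    rw [← hev]
    refine Valuation.map_add_lt _ ?_ ?_ <;> rw [map_mul]
    · exact (mul_le_of_le_one_left' (eval_le_one v a hnot.1 _ hsk)).trans_lt h1
    · exact (mul_le_of_le_one_left' (eval_le_one v b hnot.2 _ hsk)).trans_lt h2
  simp at this

end Groth.Agent.NormPlace
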