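import Mathlib

/-!
# Hensel lifting in the completions of a number field, and the resulting embeddings of extensions
-/

set_option autoImplicit false

noncomputable section

open NumberField IsDedekindDomain Polynomial

universe u

namespace Groth.Agent.NormPlace

variable {k : Type u} [Field k] [NumberField k]

local notation "Plc" => HeightOneSpectrum (NumberField.RingOfIntegers k)

theorem mem_integers_iff_norm (v : Plc) (x : v.adicCompletion k) :
    x ∈ v.adicCompletionIntegers k ↔ ‖x‖ ≤ 1 := by
  rw [HeightOneSpectrum.mem_adicCompletionIntegers]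
  exact (Valued.toNormedField.norm_le_one_iff).symm

theorem isAdicComplete_integers (v : Plc) :
    IsAdicComplete (IsLocalRing.maximalIdeal (v.adicCompletionIntegers k)) (v.adicCompletionIntegers k) := by
  obtain ⟨π, hπ⟩ := IsDiscreteValuationRing.exists_irreducible (v.adicCompletionIntegers k)
  have hm : IsLocalRing.maximalIdeal (v.adicCompletionIntegers k) = Ideal.span {π} := hπ.maximalIdeal_eq
  have hπ0 : (π : v.adicCompletion k) ≠ 0 := by simpa using hπ.ne_zero
  have hπ1 : ‖(π : v.adicCompletion k)‖ < 1 := by
    refine lt_of_le_of_ne ((mem_integers_iff_norm v _).1 π.2) fun h => hπ.not_isUnit ?_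
    have hi : (π : v.adicCompletion k)⁻¹ ∈ v.adicCompletionIntegers k :=
      (mem_integers_iff_norm v _).2 (by rw [norm_inv, h, inv_one])
    exact IsUnit.of_mul_eq_one (a := π) ⟨_, hi⟩ (Subtype.ext (mul_inv_cancel₀ hπ0))
  have hpow : ∀ (n : ℕ) (x : v.adicCompletionIntegers k),
      x ∈ IsLocalRing.maximalIdeal (v.adicCompletionIntegers k) ^ n ↔
        ‖(x : v.adicCompletion k)‖ ≤ ‖(π : v.adicCompletion k)‖ ^ n := by
    intro n x
    rw [hm, Ideal.span_singleton_pow, Ideal.mem_span_singleton]
    constructor
    · rintro ⟨y, rfl⟩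
      push_cast
      rw [norm_mul, norm_pow]
      exact mul_le_of_le_one_right (by positivity) ((mem_integers_iff_norm v _).1 y.2)
    · intro h
      have hy : (x : v.adicCompletion k) / (π : v.adicCompletion k) ^ n ∈ v.adicCompletionIntegers k := by
        rw [mem_integers_iff_norm, norm_div, norm_pow, div_le_one (pow_pos (norm_pos_iff.2 hπ0) n)]
        exact h
      exact ⟨⟨_, hy⟩, Subtype.ext (by push_cast; field_simp)⟩
  refine { haus' := ?_, prec' := ?_ }
  · exact (IsHausdorff.of_isLocalRing (I := IsLocalRing.maximalIdeal (v.adicCompletionIntegers k))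
      (v.adicCompletionIntegers k) (IsLocalRing.maximalIdeal.isMaximal _).ne_top).haus'
  · intro f hf
    have hstep : ∀ {m n : ℕ}, m ≤ n →
        ‖((f m : v.adicCompletion k)) - f n‖ ≤ ‖(π : v.adicCompletion k)‖ ^ m := fun {m n} h => by
      have h1 := hf h
      rw [SModEq.sub_mem, smul_eq_mul, Ideal.mul_top] at h1
      simpa using (hpow m _).1 h1
    have hc : CauchySeq fun n => (f n : v.adicCompletion k) :=
      cauchySeq_of_le_geometric (‖(π : v.adicCompletion k)‖) 1 hπ1 fun n => by
        rw [dist_eq_norm, one_mul]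
        exact hstep (Nat.le_succ n)
    obtain ⟨L, hL⟩ := cauchySeq_tendsto_of_complete hc
    have hLint : L ∈ v.adicCompletionIntegers k := (mem_integers_iff_norm v _).2
      (le_of_tendsto' (hL.norm) fun n => (mem_integers_iff_norm v _).1 (f n).2)
    refine ⟨⟨L, hLint⟩, fun n => ?_⟩
    rw [SModEq.sub_mem, smul_eq_mul, Ideal.mul_top, hpow]
    push_cast
    refine le_of_tendsto ((tendsto_const_nhds.sub hL).norm) ?_
    filter_upwards [Filter.eventually_ge_atTop n] with m hm'
    exact hstep hm'

/-- A root in the completion from an approximate simple root. -/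
theorem exists_root (v : Plc) (G : (v.adicCompletionIntegers k)[X]) (hG : G.Monic)
    (a : v.adicCompletionIntegers k)
    (h1 : G.eval a ∈ IsLocalRing.maximalIdeal (v.adicCompletionIntegers k))
    (h2 : G.derivative.eval a ∉ IsLocalRing.maximalIdeal (v.adicCompletionIntegers k)) :
    ∃ r, G.IsRoot r := by
  have := isAdicComplete_integers (k := k) v
  have : HenselianRing (v.adicCompletionIntegers k) (IsLocalRing.maximalIdeal _) :=
    IsAdicComplete.henselianRing _ _
  obtain ⟨r, hr, -⟩ := HenselianRing.is_henselian G hG a h1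
    ((IsLocalRing.notMem_maximalIdeal.1 h2).map (Ideal.Quotient.mk _))
  exact ⟨r, hr⟩

end Groth.Agent.NormPlace
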