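import Groth.Agent.NormPlace.UnitNorm
import Groth.Agent.NormPlace.Coord
import Groth.Agent.NormPlace.Split

/-!
# At an unramified place units are approximately norms
-/

set_option autoImplicit false

noncomputable section

open NumberField IsDedekindDomain
open scoped nonZeroDivisors

universe u

namespace Groth.Agent.NormPlace

variable {k L : Type u} [Field k] [NumberField k] [Field L] [NumberField L] [Algebra k L]

local notation "Plc" => HeightOneSpectrum (NumberField.RingOfIntegers k)
local notation "Plc'" => HeightOneSpectrum (NumberField.RingOfIntegers L)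

theorem valuation_le_one_of_isIntegral_valRing (W : Plc) (Q : Plc') (hQ : below k Q = W) {y : L}
    (hy : IsIntegral (ValRing W) y) : Q.valuation L y ≤ 1 := by
  obtain ⟨p, hp, hpy⟩ := hy
  let O := (Q.valuation L).valuationSubring
  let φ : ValRing W →+* O := ((algebraMap k L).comp (ValRing W).subtype).codRestrict O.toSubring fun a =>
    (valuation_algebraMap_le_one Q _).2 (hQ ▸ a.2)
  have hint : IsIntegral O y := ⟨p.map φ, hp.map φ, by
    rw [Polynomial.eval₂_map]
    exact hpy⟩
  obtain ⟨z, hz⟩ := IsIntegrallyClosed.algebraMap_eq_of_integral hint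
  rw [← hz]
  exact z.2

theorem isIntegral_valRing_of_forall (W : Plc) {y : L}
    (hy : ∀ Q : Plc', below k Q = W → Q.valuation L y ≤ 1) : IsIntegral (ValRing W) y := by
  obtain ⟨s, hs, z, hz⟩ := exists_mul_integral W y hy
  have hs1 : W.valuation k (algebraMap _ k s) = 1 :=
    le_antisymm (W.valuation_le_one s) (not_lt.1 fun h => hs ((W.valuation_lt_one_iff_mem s).1 h))
  have hs0 : algebraMap _ k s ≠ (0 : k) := fun h => by simp [h] at hs1
  let t : ValRing W := ⟨(algebraMap _ k s)⁻¹, by rw [mem_valRing, map_inv₀, hs1, inv_one]⟩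
  have h : y = algebraMap (ValRing W) L t * algebraMap _ L z := by
    rw [← hz, ← mul_assoc, IsScalarTower.algebraMap_apply (ValRing W) k L, ← map_mul,
      show algebraMap (ValRing W) k t = (algebraMap _ k s)⁻¹ from rfl, inv_mul_cancel₀ hs0, map_one, one_mul]
  rw [h]
  exact isIntegral_algebraMap.mul ((NumberField.RingOfIntegers.isIntegral_coe z).tower_top)

instance finite_residueField_valRing (W : HeightOneSpectrum (NumberField.RingOfIntegers k)) :
    Finite (IsLocalRing.ResidueField (ValRing W)) := by
  let ρ : NumberField.RingOfIntegers k →+* IsLocalRing.ResidueField (ValRing W) :=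
    (IsLocalRing.residue _).comp
      ((algebraMap (NumberField.RingOfIntegers k) k).codRestrict (ValRing W).toSubring fun r => W.valuation_le_one r)
  have hval : ∀ r, ρ r = 0 ↔ r ∈ W.asIdeal := fun r => by
    rw [RingHom.comp_apply, IsLocalRing.residue_eq_zero_iff, IsLocalRing.mem_maximalIdeal, mem_nonunits_iff,
      isUnit_valRing_iff, ← W.valuation_lt_one_iff_mem (K := k)]
    exact ⟨fun h => lt_of_le_of_ne (W.valuation_le_one r) h, fun h => h.ne⟩
  have := Ideal.finiteQuotientOfFreeOfNeBot W.asIdeal W.ne_bot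
  let : Field (NumberField.RingOfIntegers k ⧸ W.asIdeal) := Ideal.Quotient.field W.asIdeal
  let ρ' := Ideal.Quotient.lift W.asIdeal ρ fun r hr => (hval r).2 hr
  refine Finite.of_surjective ρ' fun q => ?_
  obtain ⟨x, rfl⟩ := IsLocalRing.residue_surjective q
  obtain ⟨s, hs, r, hr⟩ := exists_mul_integral (K := k) W (x : k) fun V hV => by
    rw [show below k V = V from HeightOneSpectrum.ext (by
      refine Ideal.ext fun r => ?_
      simp only [below, HeightOneSpectrum.under_asIdeal, Ideal.under, Ideal.mem_comap]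
      convert Iff.rfl
      exact NumberField.RingOfIntegers.ext rfl)] at hV
    exact hV ▸ x.2
  rw [Algebra.algebraMap_self, RingHom.id_apply] at hr
  have hs0 : ρ s ≠ 0 := fun h => hs ((hval s).1 h)
  have h : ρ s * IsLocalRing.residue _ x = ρ r := by
    rw [RingHom.comp_apply, RingHom.comp_apply, ← map_mul]
    exact congr_arg _ (Subtype.ext hr)
  refine ⟨Ideal.Quotient.mk _ r / Ideal.Quotient.mk _ s, ?_⟩
  rw [map_div₀, show ρ' (Ideal.Quotient.mk _ r) = ρ r from rfl, show ρ' (Ideal.Quotient.mk _ s) = ρ s from rfl,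
    ← h, mul_div_cancel_left₀ _ hs0]

theorem exists_valRing_uniformizer (W : Plc) :
    ∃ π : ValRing W, W.valuation k (π : k) = WithZero.exp (-1 : ℤ) ∧
      IsLocalRing.maximalIdeal (ValRing W) = Ideal.span {π} := by
  obtain ⟨π, hπ⟩ := W.valuation_exists_uniformizer k
  have hlt : W.valuation k π < 1 := by rw [hπ, ← WithZero.exp_zero]; exact WithZero.exp_lt_exp.2 (by norm_num)
  have hπ0 : π ≠ 0 := fun h => by simp [h] at hπ; exact WithZero.exp_ne_zero hπ.symm
  refine ⟨⟨π, hlt.le⟩, hπ, le_antisymm (fun x hx => ?_) ?_⟩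
  · rw [IsLocalRing.mem_maximalIdeal, mem_nonunits_iff, isUnit_valRing_iff] at hx
    rw [Ideal.mem_span_singleton]
    refine ⟨⟨(x : k) / π, ?_⟩, Subtype.ext (mul_div_cancel₀ _ hπ0).symm⟩
    rw [mem_valRing, map_div₀, hπ]
    rcases eq_or_ne (W.valuation k (x : k)) 0 with h0 | h0
    · simp [h0]
    rw [div_le_one₀ (zero_lt_iff.2 WithZero.exp_ne_zero), ← WithZero.log_le_iff_le_exp h0]
    have hlog := WithZero.log_lt_log h0 one_ne_zero |>.2 (lt_of_le_of_ne x.2 hx)
    rw [WithZero.log_one] at hlog
    omega
  · rw [Ideal.span_le, Set.singleton_subset_iff, SetLike.mem_coe, IsLocalRing.mem_maximalIdeal, mem_nonunits_iff,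
      isUnit_valRing_iff]
    exact hlt.ne

/-- At an unramified place every unit is a norm up to an arbitrarily small error. -/
theorem exists_unit_norm (W : Plc)
    (hram : ∀ Q : Plc', below k Q = W → Q.asIdeal.ramificationIdx (NumberField.RingOfIntegers k) = 1)
    (b : k) (hb : W.valuation k b = 1) (c : k) (hc : c ≠ 0) :
    ∃ x : L, W.valuation k (Algebra.norm k x - b) ≤ W.valuation k c := by
  classical
  have : FiniteDimensional k L := Module.Finite.of_restrictScalars_finite ℚ k L
  let A := ValRing W
  let B := integralClosure A L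
  obtain ⟨π, hπv, hπ⟩ := exists_valRing_uniformizer W
  have : IsPrincipalIdealRing A := by
    have hdvr : IsDiscreteValuationRing A := inferInstance
    infer_instance
  have : Module.Finite A B := IsIntegralClosure.finite A k L B
  have : Module.IsTorsionFree A L := .trans_faithfulSMul A k L
  have : Module.Free A B := IsIntegralClosure.module_free A k L B
  have : IsLocalization (Algebra.algebraMapSubmonoid B A⁰) L := IsIntegralClosure.isLocalization A k L B
  have hQπ : ∀ Q : Plc', below k Q = W → Q.valuation L (algebraMap k L (π : k)) = WithZero.exp (-1 : ℤ) := by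
    intro Q hQ
    have : Q.asIdeal.LiesOver W.asIdeal := (liesOver_iff Q W).2 hQ
    rw [← HeightOneSpectrum.valuation_liesOver L W Q,
      Ideal.ramificationIdx'_eq_ramificationIdx W.asIdeal Q.asIdeal W.ne_bot, hram Q hQ, pow_one, hπv]
  have hmap : algebraMap A L π = algebraMap k L (π : k) := rfl
  have hred : ∀ (y : B) (m : ℕ), algebraMap A B π ∣ y ^ m → algebraMap A B π ∣ y := by
    rintro y m ⟨z, hz⟩
    rcases Nat.eq_zero_or_pos m with rfl | hm
    · exact ⟨z * y, by rw [← mul_assoc, ← hz, pow_zero, one_mul]⟩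
    have hπ0 : algebraMap k L (π : k) ≠ 0 := by
      rw [map_ne_zero]; intro h; rw [h, map_zero] at hπv; exact WithZero.exp_ne_zero hπv.symm
    refine ⟨⟨(y : L) / algebraMap k L (π : k), isIntegral_valRing_of_forall W fun Q hQ => ?_⟩,
      Subtype.ext (mul_div_cancel₀ _ hπ0).symm⟩
    have h := congr_arg (fun t : B => Q.valuation L (t : L)) hz
    simp only [SubmonoidClass.coe_pow, MulMemClass.coe_mul, map_pow, map_mul] at h
    rw [show ((algebraMap A B π : B) : L) = algebraMap k L (π : k) from rfl, hQπ Q hQ] at h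
    have hlt : Q.valuation L (y : L) < 1 := by
      refine lt_of_not_ge fun hge => ?_
      have h1 : (1 : WithZero (Multiplicative ℤ)) ≤ WithZero.exp (-1 : ℤ) := by
        calc (1 : WithZero (Multiplicative ℤ)) ≤ Q.valuation L (y : L) ^ m := one_le_pow₀ hge
          _ = _ := h
          _ ≤ WithZero.exp (-1 : ℤ) := mul_le_of_le_one_right' (valuation_le_one_of_isIntegral_valRing W Q hQ z.2)
      rw [← WithZero.exp_zero, WithZero.exp_le_exp] at h1
      omega
    rw [map_div₀, hQπ Q hQ, div_le_one₀ (zero_lt_iff.2 WithZero.exp_ne_zero)]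
    rcases eq_or_ne (Q.valuation L (y : L)) 0 with h0 | h0
    · simp [h0]
    rw [← WithZero.log_le_iff_le_exp h0]
    have hlog := WithZero.log_lt_log h0 one_ne_zero |>.2 hlt
    rw [WithZero.log_one] at hlog
    omega
  obtain ⟨n, hn⟩ : ∃ n : ℕ, W.valuation k (π : k) ^ n < W.valuation k c := by
    refine (exists_pow_lt₀ ?_ (Units.mk0 (W.valuation k c) ((Valuation.ne_zero_iff _).2 hc))).imp fun n h => by simpa using h
    rw [hπv, ← WithZero.exp_zero]; exact WithZero.exp_lt_exp.2 (by norm_num)
  obtain ⟨x, q, hq⟩ := exists_norm_congr π hπ hred (⟨b, hb.le⟩ : A) ((isUnit_valRing_iff W _).2 hb) n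
  refine ⟨(x : L), ?_⟩
  rw [show Algebra.norm k (x : L) = algebraMap A k (Algebra.norm A x) from
    Algebra.norm_localization A A⁰ (Sₘ := L) x]
  have h := congr_arg (fun t : A => W.valuation k (t : k)) hq
  simp only [AddSubgroupClass.coe_sub, MulMemClass.coe_mul, SubmonoidClass.coe_pow, map_mul, map_pow] at h
  exact h.le.trans ((mul_le_of_le_one_right' q.2).trans hn.le)

end Groth.Agent.NormPlace
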