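import Groth.Agent.NormPlace.Coord
import Groth.Agent.NormPlace.Approx
import Groth.Agent.NormPlace.UnitNormNF

/-!
# Targets at one place for the locally split values
-/

set_option autoImplicit false

noncomputable section

open NumberField IsDedekindDomain
open scoped TensorProduct

universe u

namespace Groth.Agent.NormPlace

variable {k : Type u} [Field k] [NumberField k]
variable {n : ℕ} {kf : Fin n → Type u} [∀ i, Field (kf i)] [∀ i, NumberField (kf i)] [∀ i, Algebra k (kf i)]
variable {Lf : Fin n → Type u} [∀ i, Field (Lf i)] [∀ i, NumberField (Lf i)] [∀ i, Algebra (kf i) (Lf i)]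

local notation "Plc" => HeightOneSpectrum (NumberField.RingOfIntegers k)

/-- `t` is as close to the norms of `Y` at the places above `v` as prescribed by `c`. -/
def CloseAt (v : HeightOneSpectrum (NumberField.RingOfIntegers k)) (c : k)
    (Y : ∀ i, HeightOneSpectrum (NumberField.RingOfIntegers (kf i)) → Lf i) (t : ∀ i, kf i) : Prop :=
  ∀ i, ∀ W : HeightOneSpectrum (NumberField.RingOfIntegers (kf i)), below k W = v →
    W.valuation (kf i) (t i - Algebra.norm (kf i) (Y i W)) ≤ W.valuation (kf i) (algebraMap k (kf i) c)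

/-- The value of an affine form at `t / b`. -/
def aff (c₀ : k) (f : ∀ i, kf i →ₗ[k] k) (b t : ∀ i, kf i) : k :=
  c₀ + ∑ i, f i (t i / b i)

omit [NumberField k] [∀ i, NumberField (kf i)] in
theorem aff_sub (c₀ : k) (f : ∀ i, kf i →ₗ[k] k) (b t s : ∀ i, kf i) :
    aff c₀ f b t - aff c₀ f b s = ∑ i, f i ((t i - s i) / b i) := by
  simp [aff, sub_div, Finset.sum_sub_distrib]

/-- Finitely many linear forms in the quotients by `b` are simultaneously small near given elements. -/
theorem exists_common_radius (b : ∀ i, kf i) (v : HeightOneSpectrum (NumberField.RingOfIntegers k))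
    {ι : Type} [Fintype ι] (f : ι → ∀ i, kf i →ₗ[k] k) (γ : k) (hγ : γ ≠ 0) :
    ∃ c : k, c ≠ 0 ∧ v.valuation k c < 1 ∧ ∀ d : ∀ i, kf i,
      (∀ i, ∀ W : HeightOneSpectrum (NumberField.RingOfIntegers (kf i)), below k W = v →
        W.valuation (kf i) (d i) ≤ W.valuation (kf i) (algebraMap k (kf i) c)) →
      ∀ j i, v.valuation k (f j i (d i / b i)) ≤ v.valuation k γ := by
  classical
  choose c hc0 hc1 hc using fun (p : ι × Fin n) =>
    exists_form_small ((f p.1 p.2).comp (LinearMap.mulLeft k (b p.2)⁻¹)) v γ hγ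
  obtain ⟨π, hπ⟩ := v.valuation_exists_uniformizer k
  have hπ1 : v.valuation k π < 1 := by rw [hπ, ← WithZero.exp_zero]; exact WithZero.exp_lt_exp.2 (by norm_num)
  have hπ0 : π ≠ 0 := fun h => by simp [h] at hπ; exact WithZero.exp_ne_zero hπ.symm
  have hle : ∀ p, v.valuation k (∏ p, c p) ≤ v.valuation k (c p) := fun p => by
    rw [← Finset.mul_prod_erase _ _ (Finset.mem_univ p), map_mul, map_prod]
    exact mul_le_of_le_one_right' (Finset.prod_le_one' fun q _ => (hc1 q).le)
  refine ⟨π * ∏ p, c p, mul_ne_zero hπ0 (Finset.prod_ne_zero_iff.2 fun p _ => hc0 p), ?_, fun d hd j i => ?_⟩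
  · rw [map_mul, map_prod]
    exact (mul_le_of_le_one_right' (Finset.prod_le_one' fun q _ => (hc1 q).le)).trans_lt hπ1
  · have h := hc (j, i) (d i) fun W hW => (hd i W hW).trans (valuation_algebraMap_mono W (by
      rw [hW, map_mul]
      exact (mul_le_of_le_one_left' hπ1.le).trans (hle _)))
    simpa [div_eq_inv_mul] using h

variable [∀ i, Algebra k (Lf i)] [∀ i, IsScalarTower k (kf i) (Lf i)]

/-- The conditions making the solution of the linear system agree with `t` on the line `t - a`. -/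
structure LineData (a : ∀ i, kf i) (u₀ w₀ : k) (fu fw : ∀ i, kf i →ₗ[k] k) : Prop where
  u_a : u₀ = ∑ i, fu i (a i)
  u_one : ∑ i, fu i 1 = 1
  w_a : w₀ - ∑ i, fw i (a i) = -1
  w_one : ∑ i, fw i 1 = 0

/-- Near norms at one completion the solution of the linear system is near the given point. -/
theorem exists_values {K : Type u} [Field K] [TopologicalSpace K] [IsTopologicalDivisionRing K] [T1Space K]
    [Algebra k K] (hd : DenseRange (algebraMap k K)) {a : ∀ i, kf i} {u₀ w₀ : k} {fu fw : ∀ i, kf i →ₗ[k] k}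
    (hl : LineData a u₀ w₀ fu fw) (b : ∀ i, kf i) (hb : ∀ i, b i ≠ 0) (tv : K) (U : Set K) (hU : IsOpen U)
    (htU : tv ∈ U)
    (hz : ∀ i, letI := (Algebra.TensorProduct.map (AlgHom.id k K) (IsScalarTower.toAlgHom k (kf i) (Lf i))).toRingHom.toAlgebra
      ∃ x : K ⊗[k] Lf i, IsUnit x ∧ Algebra.norm (K ⊗[k] kf i) x =
        (1 : K) ⊗ₜ[k] b i * (tv ⊗ₜ[k] (1 : kf i) - (1 : K) ⊗ₜ[k] a i)) :
    ∃ x : ∀ i, Lf i, (∀ i, x i ≠ 0) ∧ ∃ G : Set (Bool × Fin n → K), IsOpen G ∧
      (fun p => algebraMap k K ((if p.1 then fu p.2 else fw p.2) (Algebra.norm (kf p.2) (x p.2) / b p.2))) ∈ G ∧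
      ∀ t : ∀ i, kf i,
        (fun p => algebraMap k K ((if p.1 then fu p.2 else fw p.2) (t p.2 / b p.2))) ∈ G →
          aff w₀ fw b t ≠ 0 ∧ algebraMap k K (-aff u₀ fu b t / aff w₀ fw b t) ∈ U := by
  classical
  let num : (Bool × Fin n → K) → K := fun p => algebraMap k K u₀ + ∑ i, p (true, i)
  let den : (Bool × Fin n → K) → K := fun p => algebraMap k K w₀ + ∑ i, p (false, i)
  let G : Set (Bool × Fin n → K) := {p | den p ≠ 0} ∩ (fun p => -num p / den p) ⁻¹' U
  have hden : Continuous den := continuous_const.add (continuous_finsetSum _ fun i _ => continuous_apply _)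
  have hnum : Continuous num := continuous_const.add (continuous_finsetSum _ fun i _ => continuous_apply _)
  have hG : IsOpen G := ContinuousOn.isOpen_inter_preimage
    (hnum.neg.continuousOn.div hden.continuousOn fun p hp => hp) (isOpen_ne.preimage hden) hU
  let p₀ : Bool × Fin n → K := fun p =>
    formK K (if p.1 then fu p.2 else fw p.2) (tv ⊗ₜ[k] (1 : kf p.2) - (1 : K) ⊗ₜ[k] a p.2)
  have hp₀ : p₀ ∈ G := by
    have h1 : den p₀ = -1 := by
      simp only [den, p₀, Bool.false_eq_true, if_false, map_sub, formK_tmul, mul_one, Finset.sum_sub_distrib,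
        ← Finset.sum_mul, ← map_sum, hl.w_one, map_zero, zero_mul, zero_sub]
      rw [← sub_eq_add_neg, ← map_sub, hl.w_a, map_neg, map_one]
    have h2 : num p₀ = tv := by
      simp only [num, p₀, if_true, map_sub, formK_tmul, mul_one, Finset.sum_sub_distrib, ← Finset.sum_mul,
        ← map_sum, hl.u_one, map_one, one_mul, ← hl.u_a]
      ring
    refine ⟨by simp [h1], ?_⟩
    simpa [h1, h2] using htU
  obtain ⟨O, hO, hOG⟩ := isOpen_pi_iff'.1 hG p₀ hp₀
  have hfd : ∀ i, FiniteDimensional k (kf i) := fun i => Module.Finite.of_restrictScalars_finite ℚ k (kf i)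
  have hld : ∀ i, FiniteDimensional k (Lf i) := fun i => Module.Finite.of_restrictScalars_finite ℚ k (Lf i)
  choose x hx0 hx using fun i => exists_approx (L := Lf i) hd (b i) (hb i) _ (hz i)
    (fun β : Bool => if β then fu i else fw i) (fun β => O (β, i)) (fun β => hO (β, i))
  refine ⟨x, hx0, G, hG, hOG fun p _ => hx p.2 p.1, fun t ht => ?_⟩
  have h1 : den (fun p => algebraMap k K ((if p.1 then fu p.2 else fw p.2) (t p.2 / b p.2))) =
      algebraMap k K (aff w₀ fw b t) := by simp [den, aff, map_sum]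
  have h2 : num (fun p => algebraMap k K ((if p.1 then fu p.2 else fw p.2) (t p.2 / b p.2))) =
      algebraMap k K (aff u₀ fu b t) := by simp [num, aff, map_sum]
  obtain ⟨h3, h4⟩ := ht
  simp only [Set.mem_ofPred_eq, Set.mem_preimage, h1, h2] at h3 h4
  refine ⟨fun h => h3 (by rw [h, map_zero]), ?_⟩
  rwa [map_div₀, map_neg]

omit [NumberField k] in
theorem denseRange_completion (w : InfinitePlace k) : DenseRange (algebraMap k w.Completion) := by
  refine (InfinitePlace.Completion.denseRange_coe (v := w)).mono ?_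
  rintro _ ⟨z, rfl⟩
  exact ⟨WithAbs.equiv w.1 z, by rw [InfinitePlace.Completion.algebraMap_apply]; rfl⟩

omit [NumberField k] in
theorem norm_algebraMap_completion (w : InfinitePlace k) (x : k) : ‖algebraMap k w.Completion x‖ = w x := by
  rw [InfinitePlace.Completion.algebraMap_apply]
  exact InfinitePlace.Completion.norm_coe w ((WithAbs.equiv w.1).symm x)

/-- The target at a finite place with prescribed value. -/
theorem exists_target_finite {a : ∀ i, kf i} {u₀ w₀ : k} {fu fw : ∀ i, kf i →ₗ[k] k}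
    (hl : LineData a u₀ w₀ fu fw) (b : ∀ i, kf i) (hb : ∀ i, b i ≠ 0)
    (v : HeightOneSpectrum (NumberField.RingOfIntegers k)) (tv : v.adicCompletion k)
    (U : Set (v.adicCompletion k)) (hU : IsOpen U) (htU : tv ∈ U)
    (hz : ∀ i, letI := (Algebra.TensorProduct.map (AlgHom.id k (v.adicCompletion k))
        (IsScalarTower.toAlgHom k (kf i) (Lf i))).toRingHom.toAlgebra
      ∃ x : (v.adicCompletion k) ⊗[k] Lf i, IsUnit x ∧ Algebra.norm ((v.adicCompletion k) ⊗[k] kf i) x =
        (1 : v.adicCompletion k) ⊗ₜ[k] b i * (tv ⊗ₜ[k] (1 : kf i) - (1 : v.adicCompletion k) ⊗ₜ[k] a i)) :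
    ∃ (c : k) (Y : ∀ i, HeightOneSpectrum (NumberField.RingOfIntegers (kf i)) → Lf i),
      c ≠ 0 ∧ (∀ i W, Y i W ≠ 0) ∧ ∀ t, CloseAt v c Y t →
        aff w₀ fw b t ≠ 0 ∧ algebraMap k (v.adicCompletion k) (-aff u₀ fu b t / aff w₀ fw b t) ∈ U := by
  classical
  obtain ⟨x, hx0, G, hG, hxG, hgood⟩ :=
    exists_values (Lf := Lf) (HeightOneSpectrum.denseRange_algebraMap k v) hl b hb tv U hU htU hz
  obtain ⟨ε, hε, hball⟩ := Metric.isOpen_iff.1 hG _ hxG
  obtain ⟨γ, hγ0, hγ⟩ : ∃ γ : k, γ ≠ 0 ∧ ‖algebraMap k (v.adicCompletion k) γ‖ < ε := by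
    obtain ⟨π, hπ⟩ := v.valuation_exists_uniformizer k
    have hπ1 : ‖algebraMap k (v.adicCompletion k) π‖ < 1 := Valued.toNormedField.norm_lt_one_iff.2 (by
      rw [show Valued.v (algebraMap k (v.adicCompletion k) π) = v.valuation k π from
        HeightOneSpectrum.adicCompletion.valued_coe (K := k) (v := v) π, hπ, ← WithZero.exp_zero]
      exact WithZero.exp_lt_exp.2 (by norm_num))
    have hπ0 : π ≠ 0 := fun h => by simp [h] at hπ; exact WithZero.exp_ne_zero hπ.symm
    obtain ⟨m, hm⟩ := exists_pow_lt_of_lt_one hε hπ1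
    exact ⟨π ^ m, pow_ne_zero _ hπ0, by rwa [map_pow, norm_pow]⟩
  obtain ⟨c, hc0, -, hc⟩ := exists_common_radius b v (fun (β : Bool) i => if β then fu i else fw i) γ hγ0
  refine ⟨c, fun i _ => x i, hc0, fun i _ => hx0 i, fun t ht => hgood t (hball ?_)⟩
  rw [Metric.mem_ball, dist_pi_lt_iff hε]
  rintro ⟨β, i⟩
  rw [dist_eq_norm, ← map_sub]
  refine lt_of_le_of_lt (Valued.toNormedField.norm_le_iff.2 ?_) hγ
  rw [show ∀ z : k, Valued.v (algebraMap k (v.adicCompletion k) z) = v.valuation k z from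
    fun z => HeightOneSpectrum.adicCompletion.valued_coe (K := k) (v := v) z,
    show Valued.v (algebraMap k (v.adicCompletion k) γ) = v.valuation k γ from
      HeightOneSpectrum.adicCompletion.valued_coe (K := k) (v := v) γ, ← map_sub, ← sub_div]
  exact hc (fun j => t j - Algebra.norm (kf j) (x j)) (fun j W hW => ht j W hW) β i

/-- The target at an infinite place with prescribed value. -/
theorem exists_target_infinite {a : ∀ i, kf i} {u₀ w₀ : k} {fu fw : ∀ i, kf i →ₗ[k] k}
    (hl : LineData a u₀ w₀ fu fw) (b : ∀ i, kf i) (hb : ∀ i, b i ≠ 0)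
    (w : InfinitePlace k) (tv : w.Completion)
    (U : Set w.Completion) (hU : IsOpen U) (htU : tv ∈ U)
    (hz : ∀ i, letI := (Algebra.TensorProduct.map (AlgHom.id k w.Completion)
        (IsScalarTower.toAlgHom k (kf i) (Lf i))).toRingHom.toAlgebra
      ∃ x : w.Completion ⊗[k] Lf i, IsUnit x ∧ Algebra.norm (w.Completion ⊗[k] kf i) x =
        (1 : w.Completion) ⊗ₜ[k] b i * (tv ⊗ₜ[k] (1 : kf i) - (1 : w.Completion) ⊗ₜ[k] a i)) :
    ∃ (δ : ℝ) (Y : ∀ i, Lf i), 0 < δ ∧ (∀ i, Y i ≠ 0) ∧ ∀ t : ∀ i, kf i,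
      (∀ i, ∀ W : InfinitePlace (kf i), W.comap (algebraMap k (kf i)) = w →
        W (t i - Algebra.norm (kf i) (Y i)) < δ) →
        aff w₀ fw b t ≠ 0 ∧ algebraMap k w.Completion (-aff u₀ fu b t / aff w₀ fw b t) ∈ U := by
  classical
  obtain ⟨x, hx0, G, hG, hxG, hgood⟩ :=
    exists_values (Lf := Lf) (denseRange_completion w) hl b hb tv U hU htU hz
  obtain ⟨ε, hε, hball⟩ := Metric.isOpen_iff.1 hG _ hxG
  choose δ hδ0 hδ using fun p : Bool × Fin n => exists_form_small_infinite
    ((if p.1 then fu p.2 else fw p.2).comp (LinearMap.mulLeft k (b p.2)⁻¹)) w ε hε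
  obtain ⟨δ₀, hδ₀, hle⟩ : ∃ δ₀ : ℝ, 0 < δ₀ ∧ ∀ p, δ₀ ≤ δ p := by
    rcases isEmpty_or_nonempty (Bool × Fin n) with h | h
    · exact ⟨1, one_pos, fun p => isEmptyElim p⟩
    · exact ⟨Finset.univ.inf' Finset.univ_nonempty δ, (Finset.lt_inf'_iff _).2 fun p _ => hδ0 p,
        fun p => Finset.inf'_le _ (Finset.mem_univ p)⟩
  refine ⟨δ₀, x, hδ₀, hx0, fun t ht => hgood t (hball ?_)⟩
  rw [Metric.mem_ball, dist_pi_lt_iff hε]
  rintro ⟨β, i⟩
  rw [dist_eq_norm, ← map_sub, norm_algebraMap_completion, ← map_sub, ← sub_div, div_eq_inv_mul]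
  exact hδ (β, i) (t i - Algebra.norm (kf i) (x i)) fun W hW => (ht i W hW).trans_le (hle _)

omit [∀ i, Algebra k (Lf i)] [∀ i, IsScalarTower k (kf i) (Lf i)] in
/-- The target at an exceptional place: norms close to `b`. -/
theorem exists_target_unit {w₀ : k} {fw : ∀ i, kf i →ₗ[k] k} (hw0 : w₀ = 0 ∨ w₀ = -1)
    (hw1 : ∑ i, fw i 1 = 0) (b : ∀ i, kf i) (hb : ∀ i, b i ≠ 0)
    (v : HeightOneSpectrum (NumberField.RingOfIntegers k))
    (hbu : ∀ i, ∀ W : HeightOneSpectrum (NumberField.RingOfIntegers (kf i)), below k W = v →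
      W.valuation (kf i) (b i) = 1)
    (hram : ∀ i, ∀ W : HeightOneSpectrum (NumberField.RingOfIntegers (kf i)), below k W = v →
      ∀ Q : HeightOneSpectrum (NumberField.RingOfIntegers (Lf i)), below (kf i) Q = W →
        Q.asIdeal.ramificationIdx (NumberField.RingOfIntegers (kf i)) = 1) :
    ∃ (c : k) (Y : ∀ i, HeightOneSpectrum (NumberField.RingOfIntegers (kf i)) → Lf i),
      c ≠ 0 ∧ (∀ i W, Y i W ≠ 0) ∧ ∀ t, CloseAt v c Y t → v.valuation k (aff w₀ fw b t) ≤ 1 ∧
        ∀ i, ∀ W : HeightOneSpectrum (NumberField.RingOfIntegers (kf i)), below k W = v →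
          W.valuation (kf i) (t i) = 1 := by
  classical
  obtain ⟨c, hc0, hc1, hc⟩ := exists_common_radius b v (fun (_ : Unit) i => fw i) 1 one_ne_zero
  have hY : ∀ i, ∀ W : HeightOneSpectrum (NumberField.RingOfIntegers (kf i)), ∃ y : Lf i, y ≠ 0 ∧
      (below k W = v → W.valuation (kf i) (Algebra.norm (kf i) y - b i) ≤
        W.valuation (kf i) (algebraMap k (kf i) c)) := by
    intro i W
    by_cases hW : below k W = v
    · obtain ⟨y, hy⟩ := exists_unit_norm (L := Lf i) W (hram i W hW) (b i) (hbu i W hW) (algebraMap k (kf i) c)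
        (by simpa using hc0)
      refine ⟨y, fun h => ?_, fun _ => hy⟩
      have hlt : W.valuation (kf i) (algebraMap k (kf i) c) < 1 := (valuation_algebraMap_lt_one W c).2 (hW ▸ hc1)
      rw [h, Algebra.norm_zero, zero_sub, Valuation.map_neg, hbu i W hW] at hy
      exact absurd hlt (not_lt.2 hy)
    · exact ⟨1, one_ne_zero, fun h => absurd h hW⟩
  choose Y hY0 hY using hY
  refine ⟨c, Y, hc0, hY0, fun t ht => ?_⟩
  have hd : ∀ i, ∀ W : HeightOneSpectrum (NumberField.RingOfIntegers (kf i)), below k W = v →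
      W.valuation (kf i) (t i - b i) ≤ W.valuation (kf i) (algebraMap k (kf i) c) := fun i W hW => by
    rw [← sub_add_sub_cancel (t i) (Algebra.norm (kf i) (Y i W)) (b i)]
    exact Valuation.map_add_le _ (ht i W hW) (hY i W hW)
  constructor
  · have h := aff_sub w₀ fw b t b
    have hbb : aff w₀ fw b b = w₀ := by
      simp [aff, div_self (hb _), hw1]
    rw [hbb] at h
    rw [show aff w₀ fw b t = w₀ + ∑ i, fw i ((t i - b i) / b i) by rw [← h]; ring]
    refine Valuation.map_add_le _ ?_ (Valuation.map_sum_le _ fun i _ => (hc _ hd () i).trans (map_one _).le)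
    rcases hw0 with h0 | h0 <;> simp [h0]
  · intro i W hW
    have hlt := (hd i W hW).trans_lt ((valuation_algebraMap_lt_one W c).2 (hW ▸ hc1))
    rw [Valuation.map_eq_of_sub_lt _ (by rwa [hbu i W hW]), hbu i W hW]

omit [∀ i, Algebra k (Lf i)] [∀ i, IsScalarTower k (kf i) (Lf i)] in
/-- The target at an auxiliary place: prescribed unit norms. -/
theorem exists_target_fixed {w₀ : k} {fw : ∀ i, kf i →ₗ[k] k} (b : ∀ i, kf i)
    (v : HeightOneSpectrum (NumberField.RingOfIntegers k)) (y : ∀ i, Lf i)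
    (hy : ∀ i, ∀ W : HeightOneSpectrum (NumberField.RingOfIntegers (kf i)), below k W = v →
      W.valuation (kf i) (Algebra.norm (kf i) (y i)) = 1)
    (hne : aff w₀ fw b (fun i => Algebra.norm (kf i) (y i)) ≠ 0)
    (hle : v.valuation k (aff w₀ fw b (fun i => Algebra.norm (kf i) (y i))) ≤ 1) :
    ∃ (c : k), c ≠ 0 ∧ ∀ t, CloseAt v c (fun i _ => y i) t →
      aff w₀ fw b t ≠ 0 ∧ v.valuation k (aff w₀ fw b t) ≤ 1 ∧
        ∀ i, ∀ W : HeightOneSpectrum (NumberField.RingOfIntegers (kf i)), below k W = v →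
          W.valuation (kf i) (t i) = 1 := by
  classical
  obtain ⟨π, hπ⟩ := v.valuation_exists_uniformizer k
  have hπ1 : v.valuation k π < 1 := by rw [hπ, ← WithZero.exp_zero]; exact WithZero.exp_lt_exp.2 (by norm_num)
  have hπ0 : π ≠ 0 := fun h => by simp [h] at hπ; exact WithZero.exp_ne_zero hπ.symm
  obtain ⟨c, hc0, hc1, hc⟩ := exists_common_radius b v (fun (_ : Unit) i => fw i) _ (mul_ne_zero hπ0 hne)
  refine ⟨c, hc0, fun t ht => ?_⟩
  have heq : v.valuation k (aff w₀ fw b t) = v.valuation k (aff w₀ fw b (fun i => Algebra.norm (kf i) (y i))) := by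
    refine Valuation.map_eq_of_sub_lt _ ?_
    rw [aff_sub]
    refine lt_of_le_of_lt (Valuation.map_sum_le _ fun i _ => hc _ (fun j W hW => ht j W hW) () i) ?_
    rw [map_mul]
    exact mul_lt_of_lt_one_left (zero_lt_iff.2 ((Valuation.ne_zero_iff _).2 hne)) hπ1
  refine ⟨fun h => hne ?_, heq.trans_le hle, fun i W hW => ?_⟩
  · rw [h, map_zero] at heq
    exact (Valuation.zero_iff _).1 heq.symm
  · have hlt := (ht i W hW).trans_lt ((valuation_algebraMap_lt_one W c).2 (hW ▸ hc1))
    rw [Valuation.map_eq_of_sub_lt _ (by rw [hy i W hW]; exact hlt), hy i W hW]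

end Groth.Agent.NormPlace
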