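import Mathlib

/-!
# The norm form of an extension in coordinates
-/

set_option autoImplicit false

noncomputable section

open scoped TensorProduct

universe u v w

namespace Groth.Agent.NormPlace

variable {k : Type u} [Field k] {L : Type v} [CommRing L] [Algebra k L] {n : ℕ}
  (B : Module.Basis (Fin n) k L)

/-- The norm form in the coordinates of a basis, over any `k`-algebra. -/
def nm (K : Type w) [CommRing K] [Algebra k K] (c : Fin n → K) : K :=
  (∑ i, c i • (Algebra.leftMulMatrix B (B i)).map (algebraMap k K)).det

theorem nm_map {K : Type w} [CommRing K] [Algebra k K] (c : Fin n → k) :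
    nm B K (fun i => algebraMap k K (c i)) = algebraMap k K (Algebra.norm k (∑ i, c i • B i)) := by
  rw [nm, Algebra.norm_eq_matrix_det B, map_sum, RingHom.map_det]
  congr 1
  rw [map_sum]
  refine Finset.sum_congr rfl fun i _ => ?_
  rw [map_smul]
  ext a b
  simp [Matrix.map_apply]

theorem exists_nm_eq_norm {K : Type w} [CommRing K] [Algebra k K] (y : K ⊗[k] L) :
    ∃ c : Fin n → K, nm B K c = Algebra.norm K y := by
  refine ⟨fun i => (B.baseChange K).repr y i, ?_⟩
  conv_rhs => rw [← (B.baseChange K).sum_repr y]
  rw [nm, Algebra.norm_eq_matrix_det (B.baseChange K), map_sum]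
  congr 1
  refine Finset.sum_congr rfl fun i _ => ?_
  rw [map_smul]
  congr 1
  ext a b
  rw [Matrix.map_apply, Algebra.leftMulMatrix_eq_repr_mul, Algebra.leftMulMatrix_eq_repr_mul,
    Module.Basis.baseChange_apply, Module.Basis.baseChange_apply, Algebra.TensorProduct.tmul_mul_tmul,
    one_mul, Module.Basis.baseChange_repr_tmul, Algebra.smul_def, mul_one]

theorem continuous_nm (K : Type w) [Field K] [TopologicalSpace K] [IsTopologicalRing K] [Algebra k K] :
    Continuous (nm B K) :=
  Continuous.matrix_det (continuous_finsetSum _ fun i _ =>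
    (continuous_apply i).smul continuous_const)

/-- Values of the norm form near a point along a line. -/
theorem isOpen_line {K : Type w} [Field K] [TopologicalSpace K] [IsTopologicalRing K] [Algebra k K]
    {W : Set K} (hW : IsOpen W) (c e : Fin n → k)
    (hc : algebraMap k K (Algebra.norm k (∑ i, c i • B i)) ∈ W) :
    IsOpen {z : K | nm B K (fun i => algebraMap k K (c i) + z * algebraMap k K (e i)) ∈ W} ∧
      (0 : K) ∈ {z : K | nm B K (fun i => algebraMap k K (c i) + z * algebraMap k K (e i)) ∈ W} := by
  refine ⟨hW.preimage ((continuous_nm B K).comp (continuous_pi fun i =>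
    continuous_const.add (continuous_id.mul continuous_const))), ?_⟩
  simpa [nm_map] using hc

theorem nm_line {K : Type w} [CommRing K] [Algebra k K] (c e : Fin n → k) (s : k) :
    nm B K (fun i => algebraMap k K (c i) + algebraMap k K s * algebraMap k K (e i)) =
      algebraMap k K (Algebra.norm k ((∑ i, c i • B i) + s • ∑ i, e i • B i)) := by
  rw [show (∑ i, c i • B i) + s • ∑ i, e i • B i = ∑ i, (c i + s * e i) • B i by
    simp [add_smul, Finset.sum_add_distrib, Finset.smul_sum, mul_smul], ← nm_map]
  simp

end Groth.Agent.NormPlace
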