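import Groth.Agent.NormPlace.Split
import Groth.Agent.NormPlace.Norm
import Groth.Agent.StrongApprox.Basic

/-!
# Elements near prescribed norms with all other zeros at degree-one places
-/

set_option autoImplicit false

noncomputable section

open NumberField IsDedekindDomain Polynomial
open scoped TensorProduct IntermediateField

universe u

namespace Groth.Agent.NormPlace

variable {k : Type u} [Field k] [NumberField k]

local notation "Plc" => HeightOneSpectrum (NumberField.RingOfIntegers k)

section line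

variable {L : Type u} [Field L] [Algebra k L]

/-- Only finitely many elements of a line with generating direction fail to generate. -/
theorem finite_not_generator [FiniteDimensional k L] [Algebra.IsSeparable k L] (y θ : L)
    (hθ : k⟮θ⟯ = ⊤) : {s : k | k⟮y + s • θ⟯ ≠ ⊤}.Finite := by
  have : Finite (IntermediateField k L) :=
    Field.finite_intermediateField_of_exists_primitive_element k L
      (Field.exists_primitive_element k L)
  refine Set.Finite.of_finite_image (f := fun s => k⟮y + s • θ⟯) (Set.toFinite _) ?_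
  intro s hs s' hs' h
  by_contra hne
  have h1 : y + s • θ ∈ k⟮y + s • θ⟯ := IntermediateField.mem_adjoin_simple_self k _
  have h2 : y + s' • θ ∈ k⟮y + s • θ⟯ := by
    rw [show k⟮y + s • θ⟯ = k⟮y + s' • θ⟯ from h]
    exact IntermediateField.mem_adjoin_simple_self k _
  have h3 := k⟮y + s • θ⟯.smul_mem (sub_mem h1 h2) (x := (s - s')⁻¹)
  rw [show y + s • θ - (y + s' • θ) = (s - s') • θ by rw [sub_smul]; abel, smul_smul,
    inv_mul_cancel₀ (sub_ne_zero.2 hne), one_smul] at h3
  exact hs (eq_top_iff.2 (hθ ▸ IntermediateField.adjoin_simple_le_iff.2 h3))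

theorem exists_integral_generator [CharZero L] [FiniteDimensional k L] [Algebra.IsSeparable k L]
    (hL : Algebra.IsAlgebraic ℚ L) :
    ∃ θ : L, IsIntegral ℤ θ ∧ k⟮θ⟯ = ⊤ := by
  obtain ⟨a, ha⟩ := Field.exists_primitive_element k L
  obtain ⟨y, hy, hi⟩ := ((IsFractionRing.isAlgebraic_iff ℤ ℚ L).2 (hL.isAlgebraic a)).exists_integral_multiple
  refine ⟨_, hi, ?_⟩
  rw [eq_top_iff, ← ha, IntermediateField.adjoin_simple_le_iff, zsmul_eq_mul]
  have hmem := IntermediateField.mem_adjoin_simple_self k ((y : L) * a)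
  by_cases h0 : (y : L) = 0
  · have : CharZero L := charZero_of_injective_algebraMap (algebraMap k L).injective
    exact absurd (Int.cast_eq_zero.1 h0) hy
  · have := mul_mem (inv_mem (intCast_mem k⟮(y : L) * a⟯ y)) hmem
    rwa [← mul_assoc, inv_mul_cancel₀ h0, one_mul] at this

end line

theorem finite_coeff (p : k[X]) : {v : Plc | ∃ i, 1 < v.valuation k (p.coeff i)}.Finite := by
  refine (p.support.finite_toSet.biUnion fun i _ =>
    HeightOneSpectrum.Support.finite (NumberField.RingOfIntegers k) (p.coeff i)).subset ?_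
  rintro v ⟨i, hi⟩
  simp only [Set.mem_iUnion]
  exact ⟨i, Polynomial.mem_support_iff.2 (fun h => by simp [h] at hi), hi⟩

theorem isIntegral_valRing_of_int {L : Type u} [Field L] [Algebra k L] (v : Plc) {x : L}
    (h : IsIntegral ℤ x) : IsIntegral (ValRing v) x :=
  h.tower_top

/-- Elements near prescribed norms, integral away from one auxiliary split place, whose other zeros are at
degree-one places. -/
theorem exists_near {L : Type u} [Field L] [NumberField L] [Algebra k L]
    (Sf : Finset Plc) (Si : Finset (InfinitePlace k))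
    (tf : (v : Plc) → v.adicCompletion k) (ti : (w : InfinitePlace k) → w.Completion)
    (htf : ∀ v ∈ Sf, tf v ≠ 0 ∧ ∃ x : (v.adicCompletion k) ⊗[k] L, Algebra.norm (v.adicCompletion k) x = tf v)
    (hti : ∀ w ∈ Si, ti w ≠ 0 ∧ ∃ x : w.Completion ⊗[k] L, Algebra.norm w.Completion x = ti w)
    (Uf : (v : Plc) → Set (v.adicCompletion k)) (hUf : ∀ v ∈ Sf, IsOpen (Uf v) ∧ tf v ∈ Uf v)
    (Ui : (w : InfinitePlace k) → Set w.Completion) (hUi : ∀ w ∈ Si, IsOpen (Ui w) ∧ ti w ∈ Ui w)
    (v₀ : Plc) (hv₀ : v₀ ∉ Sf) (hLv₀ : Nonempty (L →ₐ[k] v₀.adicCompletion k)) :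
    ∃ t : k, t ≠ 0 ∧ (∀ v ∈ Sf, algebraMap k (v.adicCompletion k) t ∈ Uf v) ∧
      (∀ w ∈ Si, algebraMap k w.Completion t ∈ Ui w) ∧
      (∀ v : Plc, v ∉ Sf → v ≠ v₀ → v.valuation k t ≤ 1) ∧
      ∀ v : Plc, v ∉ Sf → v.valuation k t = 1 ∨ Nonempty (L →ₐ[k] v.adicCompletion k) := by
  classical
  have : FiniteDimensional k L := Module.Finite.of_restrictScalars_finite ℚ k L
  obtain ⟨θ, hθi, hθ⟩ := exists_integral_generator (k := k) (L := L) inferInstance
  -- a basis of powers of the generator
  let pb : PowerBasis k L := (IntermediateField.adjoin.powerBasis (IsIntegral.of_finite k θ)).map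
    ((IntermediateField.equivOfEq hθ).trans IntermediateField.topEquiv)
  let B : Module.Basis (Fin pb.dim) k L := pb.basis
  have hgen : pb.gen = θ := by
    simp [pb, IntermediateField.adjoin.powerBasis_gen]
  have hBi : ∀ i, IsIntegral ℤ (B i) := fun i => by
    rw [show B i = θ ^ (i : ℕ) by rw [← hgen]; exact pb.basis_eq_pow i]
    exact hθi.pow _
  -- enlarge the set of places by those of small norm
  let n := pb.dim
  have hsmall : {v : Plc | Ideal.absNorm v.asIdeal ≤ n}.Finite :=
    ((Ideal.finite_setOfPred_absNorm_le (S := NumberField.RingOfIntegers k) n).preimage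
      (fun _ _ _ _ h => HeightOneSpectrum.ext h))
  let F : Finset Plc := Sf ∪ hsmall.toFinset.erase v₀
  have hv₀F : v₀ ∉ F := by simp [F, hv₀]
  let Tf : (v : Plc) → Set (v.adicCompletion k) := fun v =>
    if v ∈ Sf then Uf v else {z | ‖z - 1‖ < 1}
  let Ti : (w : InfinitePlace k) → Set w.Completion := fun w =>
    if w ∈ Si then Ui w ∩ {0}ᶜ else {0}ᶜ
  have hTf : ∀ v ∈ F, IsOpen (Tf v) ∧ ∃ c, nm B (v.adicCompletion k) c ∈ Tf v := by
    intro v hv
    by_cases h : v ∈ Sf
    · obtain ⟨y, hy⟩ := (htf v h).2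
      obtain ⟨c, hc⟩ := exists_nm_eq_norm B y
      simp only [Tf, h, if_true]
      exact ⟨(hUf v h).1, c, by rw [hc, hy]; exact (hUf v h).2⟩
    · obtain ⟨c, hc⟩ := exists_nm_eq_norm B (1 : (v.adicCompletion k) ⊗[k] L)
      simp only [Tf, h, if_false]
      refine ⟨isOpen_lt (continuous_id.sub continuous_const).norm continuous_const, c, ?_⟩
      simp [hc, map_one]
  have hTi : ∀ w, IsOpen (Ti w) ∧ ∃ c, nm B w.Completion c ∈ Ti w := by
    intro w
    by_cases h : w ∈ Si
    · obtain ⟨y, hy⟩ := (hti w h).2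
      obtain ⟨c, hc⟩ := exists_nm_eq_norm B y
      simp only [Ti, h, if_true]
      exact ⟨(hUi w h).1.inter isOpen_compl_singleton, c, by
        rw [hc, hy]; exact ⟨(hUi w h).2, (hti w h).1⟩⟩
    · obtain ⟨c, hc⟩ := exists_nm_eq_norm B (1 : w.Completion ⊗[k] L)
      simp only [Ti, h, if_false]
      exact ⟨isOpen_compl_singleton, c, by simp [hc, map_one]⟩
  -- boxes around suitable coordinates
  choose! cf hcf using fun v hv => (hTf v hv).2
  choose ci hci using fun w => (hTi w).2
  choose! bf hbf hbf' using fun v (hv : v ∈ F) => isOpen_pi_iff'.1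
    ((hTf v hv).1.preimage (continuous_nm B (v.adicCompletion k))) (cf v) (hcf v hv)
  choose bi hbi hbi' using fun w => isOpen_pi_iff'.1
    ((hTi w).1.preimage (continuous_nm B w.Completion)) (ci w) (hci w)
  choose c hc1 hc2 hc3 using fun i => StrongApprox.strong_approx v₀ F hv₀F (fun v => bf v i)
    (fun v hv => ⟨(hbf v hv i).1, _, (hbf v hv i).2⟩)
    (Set.univ.pi fun w => bi w i) (isOpen_set_pi Set.finite_univ fun w _ => (hbi w i).1)
    ⟨fun w => ci w i, fun w _ => (hbi w i).2⟩
  have hfK : ∀ v ∈ F, algebraMap k (v.adicCompletion k) (Algebra.norm k (∑ i, c i • B i)) ∈ Tf v :=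
    fun v hv => by
      rw [← nm_map]
      exact hbf' v hv (fun i _ => hc1 i v hv)
  have hiK : ∀ w, algebraMap k w.Completion (Algebra.norm k (∑ i, c i • B i)) ∈ Ti w := fun w => by
    rw [← nm_map]
    exact hbi' w (fun i _ => hc2 i w (Set.mem_univ w))
  -- move to a generator
  let e : Fin pb.dim → k := fun i => B.repr θ i
  have he : ∑ i, e i • B i = θ := B.sum_repr θ
  obtain ⟨s₁, ⟨hs1, hs2, hs3⟩, hs4⟩ := ((StrongApprox.strong_approx_infinite v₀ F hv₀F
      (fun v => {z | nm B _ (fun i => algebraMap k _ (c i) + z * algebraMap k _ (e i)) ∈ Tf v})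
      (fun v hv => ⟨(isOpen_line B (hTf v hv).1 c e (hfK v hv)).1, 0,
        (isOpen_line B (hTf v hv).1 c e (hfK v hv)).2⟩)
      (Set.univ.pi fun w => {z | nm B _ (fun i => algebraMap k _ (c i) + z * algebraMap k _ (e i)) ∈ Ti w})
      (isOpen_set_pi Set.finite_univ fun w _ => (isOpen_line B (hTi w).1 c e (hiK w)).1)
      ⟨0, fun w _ => (isOpen_line B (hTi w).1 c e (hiK w)).2⟩).sdiff
    (finite_not_generator (∑ i, c i • B i) θ hθ)).nonempty
  simp only [Set.mem_ofPred_eq, not_not] at hs4
  let y := (∑ i, c i • B i) + s₁ • θ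
  let c' : Fin pb.dim → k := fun i => B.repr y i
  have hy : ∑ i, c' i • B i = y := B.sum_repr y
  have hyf : ∀ v ∈ F, algebraMap k (v.adicCompletion k) (Algebra.norm k y) ∈ Tf v := fun v hv => by
    have h := hs1 v hv
    simp only [Set.mem_ofPred_eq, nm_line, he] at h
    exact h
  have hyi : ∀ w, algebraMap k w.Completion (Algebra.norm k y) ∈ Ti w := fun w => by
    have h := hs2 w (Set.mem_univ w)
    simp only [Set.mem_ofPred_eq, nm_line, he] at h
    exact h
  let x₀ : L := -y
  have hx₀ : k⟮x₀⟯ = ⊤ := by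
    rw [eq_top_iff, ← hs4, IntermediateField.adjoin_simple_le_iff]
    have := neg_mem (IntermediateField.mem_adjoin_simple_self k x₀)
    simpa [x₀, y] using this
  let g := minpoly k x₀
  have hg : g.Monic := minpoly.monic (IsIntegral.of_finite k x₀)
  have hgdeg : g.natDegree = n := by
    rw [(Field.primitive_element_iff_minpoly_natDegree_eq k x₀).1 hx₀]
    exact pb.finrank
  obtain ⟨a, b, hab⟩ := (Algebra.IsSeparable.isSeparable k x₀ : g.Separable)
  -- integrality away from `F` and `v₀`
  have hgA : ∀ v, v ∉ F → v ≠ v₀ → ∃ G : (ValRing v)[X], G.Monic ∧ g = G.map (ValRing v).subtype := by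
    intro v hvF hv0
    have hint : IsIntegral (ValRing v) x₀ := by
      refine IsIntegral.neg (IsIntegral.add (IsIntegral.sum _ fun i _ => ?_) ?_)
      · rw [Algebra.smul_def]
        exact ((isIntegral_algebraMap (R := ValRing v) (x := (⟨c i, hc3 i v hvF hv0⟩ : ValRing v))).mul
          (isIntegral_valRing_of_int v (hBi i)))
      · rw [Algebra.smul_def]
        exact ((isIntegral_algebraMap (R := ValRing v) (x := (⟨s₁, hs3 v hvF hv0⟩ : ValRing v))).mul
          (isIntegral_valRing_of_int v hθi))
    exact ⟨minpoly (ValRing v) x₀, minpoly.monic hint,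
      minpoly.isIntegrallyClosed_eq_field_fractions k L hint⟩
  let D : Finset Plc := ((finite_coeff a).union (finite_coeff b)).toFinset \ insert v₀ F
  have hD : ∀ v ∈ D, v ∉ F ∧ v ≠ v₀ := fun v hv => by
    simp only [D, Finset.mem_sdiff, Finset.mem_insert, not_or] at hv
    exact ⟨hv.2.2, hv.2.1⟩
  have hex : ∀ v ∈ D, ∃ r, v.valuation k r ≤ 1 ∧ v.valuation k (g.eval r) = 1 := fun v hv => by
    obtain ⟨G, hG, hgG⟩ := hgA v (hD v hv).1 (hD v hv).2
    have hlarge : n < Ideal.absNorm v.asIdeal := by
      by_contra hle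
      exact (hD v hv).1 (Finset.mem_union_right _ (Finset.mem_erase.2
        ⟨(hD v hv).2, hsmall.mem_toFinset.2 (not_lt.1 hle)⟩))
    obtain ⟨r, hr, hr'⟩ := exists_nonroot v G hG (by
      rwa [← hG.natDegree_map (ValRing v).subtype, ← hgG, hgdeg])
    exact ⟨r, hr, by rw [hgG]; exact hr'⟩
  choose! r hr1 hr2 using hex
  -- the final translation
  let e₁ : Fin pb.dim → k := fun i => B.repr 1 i
  have he₁ : ∑ i, e₁ i • B i = 1 := B.sum_repr 1
  obtain ⟨s, hsf, hsi, hsint⟩ := StrongApprox.strong_approx v₀ (F ∪ D) (by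
      simp only [Finset.mem_union, not_or]
      exact ⟨hv₀F, fun h => (hD v₀ h).2 rfl⟩)
    (fun v => if v ∈ F then {z | nm B _ (fun i => algebraMap k _ (c' i) + z * algebraMap k _ (e₁ i)) ∈ Tf v}
      else {z | ‖z - algebraMap k _ (r v)‖ < 1})
    (fun v hv => by
      by_cases h : v ∈ F
      · simp only [h, if_true]
        exact ⟨(isOpen_line B (hTf v h).1 c' e₁ (by rw [hy]; exact hyf v h)).1, 0,
          (isOpen_line B (hTf v h).1 c' e₁ (by rw [hy]; exact hyf v h)).2⟩
      · simp only [h, if_false]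
        exact ⟨isOpen_lt (continuous_id.sub continuous_const).norm continuous_const,
          algebraMap k _ (r v), by simp⟩)
    (Set.univ.pi fun w => {z | nm B _ (fun i => algebraMap k _ (c' i) + z * algebraMap k _ (e₁ i)) ∈ Ti w})
    (isOpen_set_pi Set.finite_univ fun w _ =>
      (isOpen_line B (hTi w).1 c' e₁ (by rw [hy]; exact hyi w)).1)
    ⟨0, fun w _ => (isOpen_line B (hTi w).1 c' e₁ (by rw [hy]; exact hyi w)).2⟩
  have hnorm : g.eval s = Algebra.norm k (y + s • (1 : L)) := by
    let pb' : PowerBasis k L := (IntermediateField.adjoin.powerBasis (IsIntegral.of_finite k x₀)).map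
      ((IntermediateField.equivOfEq hx₀).trans IntermediateField.topEquiv)
    have hgen' : pb'.gen = x₀ := by simp [pb', IntermediateField.adjoin.powerBasis_gen]
    have h := charpoly_leftMulMatrix pb'
    rw [hgen'] at h
    simp only [g]
    rw [← h, Matrix.eval_charpoly, Algebra.norm_eq_matrix_det pb'.basis, map_add, map_smul, map_one]
    simp only [x₀, map_neg, sub_neg_eq_add]
    rw [add_comm, Matrix.smul_one_eq_diagonal, Matrix.scalar_apply]
  have htf' : ∀ v ∈ F, algebraMap k (v.adicCompletion k) (g.eval s) ∈ Tf v := fun v hv => by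
    have h := hsf v (Finset.mem_union_left _ hv)
    simp only [hv, if_true, Set.mem_ofPred_eq, nm_line, hy, he₁] at h
    rwa [hnorm]
  have hti' : ∀ w, algebraMap k w.Completion (g.eval s) ∈ Ti w := fun w => by
    have h := hsi w (Set.mem_univ w)
    simp only [Set.mem_ofPred_eq, nm_line, hy, he₁] at h
    rwa [hnorm]
  have hcoe : ∀ (v : Plc) (x : k), Valued.v (algebraMap k (v.adicCompletion k) x) = v.valuation k x :=
    fun v x => HeightOneSpectrum.adicCompletion.valued_coe (K := k) (v := v) x
  have hlt : ∀ (v : Plc) (x y : k), ‖algebraMap k (v.adicCompletion k) x - algebraMap k _ y‖ < 1 →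
      v.valuation k (x - y) < 1 := fun v x y h => by
    rw [← map_sub] at h
    rw [← hcoe]
    exact Valued.toNormedField.norm_lt_one_iff.1 h
  have hsone : ∀ v, v ∉ F → v ≠ v₀ → v.valuation k s ≤ 1 := fun v hvF hv0 => by
    by_cases hvD : v ∈ D
    · have h := hsf v (Finset.mem_union_right _ hvD)
      simp only [hvF, if_false, Set.mem_ofPred_eq] at h
      have h' := Valuation.map_add_le (v.valuation k) (hlt v _ _ h).le (hr1 v hvD)
      simpa using h'
    · exact hsint v (by simp [hvF, hvD]) hv0
  have hone : ∀ v ∈ F, v ∉ Sf → v.valuation k (g.eval s) = 1 := fun v hv hS => by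
    have h := htf' v hv
    simp only [Tf, hS, if_false, Set.mem_ofPred_eq] at h
    rw [← map_one (algebraMap k (v.adicCompletion k))] at h
    have h' := hlt v _ _ h
    have := Valuation.map_one_add_of_lt (v.valuation k) h'
    simpa using this
  refine ⟨g.eval s, fun h0 => ?_, fun v hv => ?_, fun w hw => ?_, fun v hv hv0 => ?_, fun v hv => ?_⟩
  · obtain ⟨w⟩ := (inferInstance : Nonempty (InfinitePlace k))
    have h := hti' w
    rw [h0, map_zero] at h
    by_cases hw : w ∈ Si <;> simp [Ti, hw] at h
  · have h := htf' v (Finset.mem_union_left _ hv)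
    simpa [Tf, hv] using h
  · have h := hti' w
    simp only [Ti, hw, if_true] at h
    exact h.1
  · by_cases hvF : v ∈ F
    · exact (hone v hvF hv).le
    · obtain ⟨G, hG, hgG⟩ := hgA v hvF hv0
      exact eval_le_one v g (fun i => by rw [hgG, coeff_map]; exact (G.coeff i).2) s (hsone v hvF hv0)
  · by_cases hv0 : v = v₀
    · exact Or.inr (hv0 ▸ hLv₀)
    by_cases hvF : v ∈ F
    · exact Or.inl (hone v hvF hv)
    obtain ⟨G, hG, hgG⟩ := hgA v hvF hv0
    have hgc : ∀ i, v.valuation k (g.coeff i) ≤ 1 := fun i => by rw [hgG, coeff_map]; exact (G.coeff i).2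
    have hs' := hsone v hvF hv0
    have hle := eval_le_one v g hgc s hs'
    by_cases hvD : v ∈ D
    · refine Or.inl ?_
      have h := hsf v (Finset.mem_union_right _ hvD)
      simp only [hvF, if_false, Set.mem_ofPred_eq] at h
      have h' := (sub_le_eval_sub v g hgc s (r v) hs' (hr1 v hvD)).trans_lt (hlt v _ _ h)
      have := Valuation.map_eq_of_sub_lt (v.valuation k) (x := g.eval (r v)) (y := g.eval s)
        (by rwa [hr2 v hvD])
      rw [this, hr2 v hvD]
    · rcases eq_or_lt_of_le hle with h1 | h1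
      · exact Or.inl h1
      refine Or.inr (exists_embedding v x₀ hx₀ G hG hgG s hs' h1 ?_)
      have hab' : ∀ i, v.valuation k (a.coeff i) ≤ 1 ∧ v.valuation k (b.coeff i) ≤ 1 := by
        have hnot : v ∉ ((finite_coeff a).union (finite_coeff b)).toFinset := fun h => hvD
          (Finset.mem_sdiff.2 ⟨h, by simp [hvF, hv0]⟩)
        simp only [Set.Finite.mem_toFinset, Set.mem_union, Set.mem_ofPred_eq, not_or, not_exists, not_lt] at hnot
        exact fun i => ⟨hnot.1 i, hnot.2 i⟩
      have hgd : ∀ i, v.valuation k (g.derivative.coeff i) ≤ 1 := fun i => by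
        rw [hgG, derivative_map, coeff_map]; exact (G.derivative.coeff i).2
      have hev := congr_arg (Polynomial.eval s) hab
      simp only [eval_add, eval_mul, eval_one] at hev
      refine le_antisymm (eval_le_one v _ hgd s hs') (not_lt.1 fun h2 => ?_)
      have : v.valuation k (1 : k) < 1 := by
        rw [← hev]
        refine Valuation.map_add_lt _ ?_ ?_ <;> rw [map_mul]
        · exact (mul_le_of_le_one_left' (eval_le_one v a (fun i => (hab' i).1) s hs')).trans_lt h1
        · exact (mul_le_of_le_one_left' (eval_le_one v b (fun i => (hab' i).2) s hs')).trans_lt h2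
      simp at this

end Groth.Agent.NormPlace
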