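import Groth.Agent.NormPlace.Coord

/-!
# A linear change of coordinate on the line
-/

set_option autoImplicit false

noncomputable section

open NumberField IsDedekindDomain
open scoped TensorProduct

universe u

namespace Groth.Agent.Moebius

variable {k : Type u} [Field k]

theorem identity {F K : Type u} [Field F] [Algebra k F] [Field K] [Algebra k K] (b a : F) (t : K) (α β γ δ : k)
    (b' a' : F) (hb' : b' = b * (algebraMap k F γ * a + algebraMap k F δ))
    (ha' : a' = (algebraMap k F α * a + algebraMap k F β) / (algebraMap k F γ * a + algebraMap k F δ))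
    (hu : algebraMap k F γ * a + algebraMap k F δ ≠ 0) (hg : algebraMap k K γ * t + algebraMap k K δ ≠ 0) :
    (1 : K) ⊗ₜ[k] b * (t ⊗ₜ[k] (1 : F) - (1 : K) ⊗ₜ[k] a) *
        ((algebraMap k K (α * δ - β * γ) / (algebraMap k K γ * t + algebraMap k K δ)) ⊗ₜ[k] (1 : F)) =
      (1 : K) ⊗ₜ[k] b' * (((algebraMap k K α * t + algebraMap k K β) / (algebraMap k K γ * t + algebraMap k K δ))
        ⊗ₜ[k] (1 : F) - (1 : K) ⊗ₜ[k] a') := by
  let iK : K →ₐ[k] K ⊗[k] F := Algebra.TensorProduct.includeLeft
  let iF : F →ₐ[k] K ⊗[k] F := Algebra.TensorProduct.includeRight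
  show iF b * (iK t - iF a) * iK _ = iF b' * (iK _ - iF a')
  have h1 : iF b' * iF a' = iF b * iF (algebraMap k F α * a + algebraMap k F β) := by
    rw [← map_mul, ← map_mul, hb', ha', mul_assoc, mul_div_cancel₀ _ hu]
  have h2 : iK ((algebraMap k K α * t + algebraMap k K β) / (algebraMap k K γ * t + algebraMap k K δ)) =
      iK (algebraMap k K α * t + algebraMap k K β) * iK (algebraMap k K γ * t + algebraMap k K δ)⁻¹ := by
    rw [← map_mul, div_eq_mul_inv]
  have h3 : iK (algebraMap k K (α * δ - β * γ) / (algebraMap k K γ * t + algebraMap k K δ)) =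
      iK (algebraMap k K (α * δ - β * γ)) * iK (algebraMap k K γ * t + algebraMap k K δ)⁻¹ := by
    rw [← map_mul, div_eq_mul_inv]
  have h4 : iK (algebraMap k K γ * t + algebraMap k K δ) * iK (algebraMap k K γ * t + algebraMap k K δ)⁻¹ = 1 := by
    rw [← map_mul, mul_inv_cancel₀ hg, map_one]
  rw [mul_sub (iF b'), h1, h2, h3, hb']
  simp only [map_add, map_mul, map_sub, AlgHom.commutes] at h4 ⊢
  linear_combination -(iF b * (algebraMap k (K ⊗[k] F) α * iF a + algebraMap k (K ⊗[k] F) β)) * h4

theorem nhds {K : Type u} [Field K] [TopologicalSpace K] [IsTopologicalDivisionRing K] [T1Space K] [Algebra k K]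
    (α β γ δ : k) (hdet : α * δ - β * γ ≠ 0) (t : K) (hg : algebraMap k K γ * t + algebraMap k K δ ≠ 0) (t' : K)
    (ht' : t' = (algebraMap k K α * t + algebraMap k K β) / (algebraMap k K γ * t + algebraMap k K δ))
    (U : Set K) (hU : IsOpen U) (htU : t ∈ U) :
    ∃ U' : Set K, IsOpen U' ∧ t' ∈ U' ∧ ∀ s : k, α ≠ γ * s → algebraMap k K s ∈ U' →
      algebraMap k K ((δ * s - β) / (α - γ * s)) ∈ U := by
  let f : K → K := fun z => (algebraMap k K δ * z - algebraMap k K β) / (algebraMap k K α - algebraMap k K γ * z)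
  have hD : algebraMap k K α - algebraMap k K γ * t' ≠ 0 := by
    have : algebraMap k K α - algebraMap k K γ * t' =
        algebraMap k K (α * δ - β * γ) / (algebraMap k K γ * t + algebraMap k K δ) := by
      rw [ht', eq_div_iff hg, sub_mul, mul_assoc, div_mul_cancel₀ _ hg, map_sub, map_mul, map_mul]
      ring
    rw [this]
    exact div_ne_zero ((map_ne_zero _).2 hdet) hg
  have hft : f t' = t := by
    simp only [f]
    rw [div_eq_iff hD]
    have : t' * (algebraMap k K γ * t + algebraMap k K δ) = algebraMap k K α * t + algebraMap k K β := by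
      rw [ht', div_mul_cancel₀ _ hg]
    linear_combination this
  refine ⟨{z | algebraMap k K α - algebraMap k K γ * z ≠ 0} ∩ f ⁻¹' U, ?_, ⟨hD, by rwa [Set.mem_preimage, hft]⟩, ?_⟩
  · refine ContinuousOn.isOpen_inter_preimage ?_ (isOpen_ne.preimage
      (continuous_const.sub (continuous_const.mul continuous_id))) hU
    exact ((continuous_const.mul continuous_id).sub continuous_const).continuousOn.div
      (continuous_const.sub (continuous_const.mul continuous_id)).continuousOn fun z hz => hz
  · intro s _ hs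
    have := hs.2
    simp only [f, Set.mem_preimage] at this
    rwa [map_div₀, map_sub, map_sub, map_mul, map_mul]

variable [NumberField k]
variable {n : ℕ} {kf : Fin n → Type u} [∀ i, Field (kf i)] [∀ i, NumberField (kf i)] [∀ i, Algebra k (kf i)]

open NormPlace

theorem conclusion (Sf Sf' : Finset (HeightOneSpectrum (NumberField.RingOfIntegers k))) (hSS' : Sf ⊆ Sf')
    (α β γ δ : k) (a a' b b' : ∀ i, kf i)
    (hu : ∀ i, algebraMap k (kf i) γ * a i + algebraMap k (kf i) δ ≠ 0)
    (ha' : ∀ i, a' i = (algebraMap k (kf i) α * a i + algebraMap k (kf i) β) /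
      (algebraMap k (kf i) γ * a i + algebraMap k (kf i) δ))
    (hb' : ∀ i, b' i = b i * (algebraMap k (kf i) γ * a i + algebraMap k (kf i) δ))
    (hα : ∀ v : HeightOneSpectrum (NumberField.RingOfIntegers k), v ∉ Sf → v.valuation k α = 1)
    (hαβ : ∀ i, ∀ W : HeightOneSpectrum (NumberField.RingOfIntegers (kf i)), below k W ∉ Sf →
        W.valuation (kf i) (algebraMap k (kf i) α * a i + algebraMap k (kf i) β) = 1)
    (hb : ∀ i, ∀ W : HeightOneSpectrum (NumberField.RingOfIntegers (kf i)), below k W ∉ Sf →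
        W.valuation (kf i) (b i) = 1)
    (hαγ : ∀ v : HeightOneSpectrum (NumberField.RingOfIntegers k), v ∉ Sf' →
      v.valuation k α ≤ 1 ∧ v.valuation k γ ≤ 1)
    (hab : ∀ i, ∀ W : HeightOneSpectrum (NumberField.RingOfIntegers (kf i)), below k W ∉ Sf' →
      W.valuation (kf i) (a' i) ≤ 1 ∧ W.valuation (kf i) (b' i) = 1) :
    ∃ U' : (v : HeightOneSpectrum (NumberField.RingOfIntegers k)) → Set (v.adicCompletion k),
      (∀ v ∈ Sf', v ∉ Sf → IsOpen (U' v) ∧ (0 : v.adicCompletion k) ∈ U' v) ∧
      ∀ s : k, α ≠ γ * s → (∀ v ∈ Sf', v ∉ Sf → algebraMap k (v.adicCompletion k) s ∈ U' v) →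
        ∀ i, ∀ W : HeightOneSpectrum (NumberField.RingOfIntegers (kf i)),
          W.valuation (kf i) (algebraMap k (kf i) ((δ * s - β) / (α - γ * s)) - a i) < 1 →
            below k W ∈ Sf ∨ (below k W ∉ Sf' ∧ W.valuation (kf i) (algebraMap k (kf i) s - a' i) < 1) := by
  classical
  have hid : ∀ (i : Fin n) (s : k), α ≠ γ * s →
      algebraMap k (kf i) ((δ * s - β) / (α - γ * s)) - a i =
        ((algebraMap k (kf i) δ + algebraMap k (kf i) γ * a i) * algebraMap k (kf i) s -
          (algebraMap k (kf i) α * a i + algebraMap k (kf i) β)) / algebraMap k (kf i) (α - γ * s) := by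
    intro i s hs
    have h : algebraMap k (kf i) (α - γ * s) ≠ 0 := (map_ne_zero _).2 (sub_ne_zero.2 hs)
    rw [map_div₀, eq_div_iff h, sub_mul, div_mul_cancel₀ _ h, map_sub, map_sub, map_mul, map_mul]
    ring
  -- a radius at each place
  have hrad : ∀ v : HeightOneSpectrum (NumberField.RingOfIntegers k), ∃ c : k, c ≠ 0 ∧ v.valuation k (c * γ) < 1 ∧
      ∀ i, ∀ W : HeightOneSpectrum (NumberField.RingOfIntegers (kf i)), below k W = v →
        W.valuation (kf i) ((algebraMap k (kf i) δ + algebraMap k (kf i) γ * a i) * algebraMap k (kf i) c) < 1 := by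
    intro v
    obtain ⟨π, hπ⟩ := v.valuation_exists_uniformizer k
    have hπ1 : v.valuation k π < 1 := by rw [hπ, ← WithZero.exp_zero]; exact WithZero.exp_lt_exp.2 (by norm_num)
    have hπ0 : π ≠ 0 := fun h => by simp [h] at hπ; exact WithZero.exp_ne_zero hπ.symm
    have hpow : ∀ (i : Fin n) (W : HeightOneSpectrum (NumberField.RingOfIntegers (kf i))), below k W = v →
        ∀ y : kf i, ∃ N : ℕ, ∀ m, N ≤ m → W.valuation (kf i) (algebraMap k (kf i) π ^ m * y) ≤ 1 := fun i W hW y =>
      exists_pow_mul_le_one _ y ((valuation_algebraMap_lt_one W π).2 (hW ▸ hπ1))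
    have hfin := fun i => finite_above (K := kf i) v
    choose! N hN using fun (i : Fin n) (W : HeightOneSpectrum (NumberField.RingOfIntegers (kf i)))
      (hW : below k W = v) => hpow i W hW (algebraMap k (kf i) δ + algebraMap k (kf i) γ * a i)
    obtain ⟨N₀, hN₀⟩ := exists_pow_mul_le_one (W := v) π γ hπ1
    let M := N₀ + ∑ i, ∑ W ∈ (hfin i).toFinset, N i W
    refine ⟨π ^ (M + 1), pow_ne_zero _ hπ0, ?_, fun i W hW => ?_⟩
    · rw [pow_succ', mul_assoc, map_mul]
      exact (mul_le_of_le_one_right' (hN₀ M (Nat.le_add_right _ _))).trans_lt hπ1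
    · rw [pow_succ', map_mul (algebraMap k (kf i)), map_pow, mul_comm, mul_assoc, map_mul]
      refine (mul_le_of_le_one_right' (hN i W hW M ?_)).trans_lt ((valuation_algebraMap_lt_one W π).2 (hW ▸ hπ1))
      refine le_trans ?_ (Nat.le_add_left _ _)
      exact le_trans (Finset.single_le_sum (f := fun W => N i W) (fun _ _ => Nat.zero_le _)
        ((hfin i).mem_toFinset.2 hW)) (Finset.single_le_sum (f := fun i => ∑ W ∈ (hfin i).toFinset, N i W)
          (fun _ _ => Nat.zero_le _) (Finset.mem_univ i))
  choose c hc0 hcγ hcW using hrad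
  refine ⟨fun v => {z | ‖z‖ < ‖algebraMap k (v.adicCompletion k) (c v)‖}, fun v _ _ => ⟨?_, ?_⟩, ?_⟩
  · exact isOpen_lt continuous_norm continuous_const
  · simp only [Set.mem_ofPred_eq, norm_zero, norm_pos_iff]
    simpa using hc0 v
  intro s hs hU i W hlt
  by_cases hS : below k W ∈ Sf
  · exact Or.inl hS
  rw [hid i s hs] at hlt
  have hne : α - γ * s ≠ 0 := sub_ne_zero.2 hs
  by_cases hS' : below k W ∈ Sf'
  · exfalso
    have h := hU _ hS' hS
    simp only [Set.mem_ofPred_eq] at h
    have h' := Valued.toNormedField.norm_lt_iff.1 h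
    rw [show Valued.v (algebraMap k ((below k W).adicCompletion k) s) = (below k W).valuation k s from
        HeightOneSpectrum.adicCompletion.valued_coe (K := k) (v := below k W) s,
      show Valued.v (algebraMap k ((below k W).adicCompletion k) (c (below k W))) =
          (below k W).valuation k (c (below k W)) from
        HeightOneSpectrum.adicCompletion.valued_coe (K := k) (v := below k W) _] at h'
    have h1 : (below k W).valuation k (γ * s) < 1 := by
      refine lt_of_le_of_lt ?_ (hcγ (below k W))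
      rw [map_mul, map_mul, mul_comm]
      exact mul_le_mul' h'.le le_rfl
    have hden : W.valuation (kf i) (algebraMap k (kf i) (α - γ * s)) = 1 := by
      rw [valuation_algebraMap_eq_one, Valuation.map_sub_eq_of_lt_left _ (by rwa [hα _ hS]), hα _ hS]
    have hnum : W.valuation (kf i) ((algebraMap k (kf i) δ + algebraMap k (kf i) γ * a i) * algebraMap k (kf i) s) < 1 := by
      refine lt_of_le_of_lt ?_ (hcW _ i W rfl)
      rw [map_mul, map_mul]
      exact mul_le_mul' le_rfl (valuation_algebraMap_mono W h'.le)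
    rw [map_div₀, hden, div_one, Valuation.map_sub_eq_of_lt_right _ (by rwa [hαβ i W hS]), hαβ i W hS] at hlt
    exact lt_irrefl _ hlt
  refine Or.inr ⟨hS', ?_⟩
  have hua : W.valuation (kf i) (algebraMap k (kf i) γ * a i + algebraMap k (kf i) δ) = 1 := by
    have h := (hab i W hS').2
    rwa [hb' i, map_mul, hb i W hS, one_mul] at h
  have hdet : W.valuation (kf i) (algebraMap k (kf i) α * (algebraMap k (kf i) γ * a i + algebraMap k (kf i) δ) -
      algebraMap k (kf i) γ * (algebraMap k (kf i) α * a i + algebraMap k (kf i) β)) ≤ 1 := by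
    refine (Valuation.map_sub _ _ _).trans (max_le ?_ ?_) <;> rw [map_mul]
    · rw [hua, mul_one]; exact (valuation_algebraMap_le_one W α).2 (hαγ _ hS').1
    · rw [hαβ i W hS, mul_one]; exact (valuation_algebraMap_le_one W γ).2 (hαγ _ hS').2
  set X := ((algebraMap k (kf i) δ + algebraMap k (kf i) γ * a i) * algebraMap k (kf i) s -
          (algebraMap k (kf i) α * a i + algebraMap k (kf i) β)) / algebraMap k (kf i) (α - γ * s) with hX
  have hD : algebraMap k (kf i) (α - γ * s) * (algebraMap k (kf i) γ * X + (algebraMap k (kf i) γ * a i + algebraMap k (kf i) δ)) =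
      algebraMap k (kf i) α * (algebraMap k (kf i) γ * a i + algebraMap k (kf i) δ) -
      algebraMap k (kf i) γ * (algebraMap k (kf i) α * a i + algebraMap k (kf i) β) := by
    have : algebraMap k (kf i) (α - γ * s) * X = (algebraMap k (kf i) δ + algebraMap k (kf i) γ * a i) * algebraMap k (kf i) s -
          (algebraMap k (kf i) α * a i + algebraMap k (kf i) β) := by
      rw [hX, mul_div_cancel₀ _ ((map_ne_zero _).2 hne)]
    rw [map_sub, map_mul] at this ⊢
    linear_combination algebraMap k (kf i) γ * this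
  have hγX : W.valuation (kf i) (algebraMap k (kf i) γ * X) < 1 := by
    rw [map_mul]
    exact (mul_le_of_le_one_left' ((valuation_algebraMap_le_one W γ).2 (hαγ _ hS').2)).trans_lt hlt
  have hden : W.valuation (kf i) (algebraMap k (kf i) (α - γ * s)) ≤ 1 := by
    have h := congr_arg (W.valuation (kf i)) hD
    rw [map_mul, Valuation.map_add_eq_of_lt_right _ (by rwa [hua]), hua, mul_one] at h
    exact h.trans_le hdet
  have hdiff : algebraMap k (kf i) s - a' i =
      algebraMap k (kf i) (α - γ * s) * X / (algebraMap k (kf i) γ * a i + algebraMap k (kf i) δ) := by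
    rw [hX, mul_div_cancel₀ _ ((map_ne_zero _).2 hne), ha' i, eq_div_iff (hu i), sub_mul,
      div_mul_cancel₀ _ (hu i)]
    ring
  rw [hdiff, map_div₀, hua, div_one, map_mul]
  exact (mul_le_of_le_one_left' hden).trans_lt hlt

end Groth.Agent.Moebius
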