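import Mathlib

/-!
# Units are approximately norms in unramified extensions of local rings with finite residue field
-/

set_option autoImplicit false
noncomputable section

open scoped TensorProduct

universe u v

namespace Groth.Agent.NormPlace

theorem norm_prod_algebra {F : Type u} {B C : Type v} [Field F] [CommRing B] [CommRing C] [Algebra F B] [Algebra F C]
    [FiniteDimensional F B] [FiniteDimensional F C] (x : B) (y : C) :
    Algebra.norm F (x, y) = Algebra.norm F x * Algebra.norm F y := by
  classical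
  let b := Module.finBasis F B
  let c := Module.finBasis F C
  have h : Algebra.lmul F (B × C) (x, y) = LinearMap.prodMap (Algebra.lmul F B x) (Algebra.lmul F C y) :=
    LinearMap.ext fun z => rfl
  rw [Algebra.norm_apply, Algebra.norm_apply, Algebra.norm_apply, h, ← LinearMap.det_toMatrix (b.prod c),
    ← LinearMap.det_toMatrix b, ← LinearMap.det_toMatrix c, LinearMap.toMatrix_prodMap, Matrix.det_fromBlocks_zero₂₁]

theorem trace_prod_algebra {F : Type u} {B C : Type v} [Field F] [CommRing B] [CommRing C] [Algebra F B] [Algebra F C]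
    [FiniteDimensional F B] [FiniteDimensional F C] (x : B) (y : C) :
    Algebra.trace F (B × C) (x, y) = Algebra.trace F B x + Algebra.trace F C y := by
  have h : Algebra.lmul F (B × C) (x, y) = LinearMap.prodMap (Algebra.lmul F B x) (Algebra.lmul F C y) :=
    LinearMap.ext fun z => rfl
  rw [Algebra.trace_apply, Algebra.trace_apply, Algebra.trace_apply, h, LinearMap.trace_prodMap']

/-- Norm and trace are surjective for nonzero reduced finite algebras over a finite field. -/
theorem surjective_of_reduced {F : Type u} {B : Type v} [Field F] [Finite F] [CommRing B] [Algebra F B]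
    [FiniteDimensional F B] [Nontrivial B] [IsReduced B] (c : F) (hc : c ≠ 0) :
    (∃ x : B, Algebra.norm F x = c) ∧ ∃ x : B, Algebra.trace F B x = c := by
  classical
  have : IsArtinianRing B := IsArtinianRing.of_finite F B
  obtain ⟨m, hm⟩ := Ideal.exists_maximal B
  let J : Ideal B := (Ideal.span {x : B | ∀ y ∈ m, x * y = 0})
  have hann : ∀ x ∈ J, ∀ y ∈ m, x * y = 0 := by
    intro x hx
    induction hx using Submodule.span_induction with
    | mem x hx => exact hx
    | zero => exact fun y _ => zero_mul y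
    | add x z _ _ hx hz => exact fun y hy => by rw [add_mul, hx y hy, hz y hy, zero_add]
    | smul a x _ hx => exact fun y hy => by rw [smul_eq_mul, mul_assoc, hx y hy, mul_zero]
  have hJm : ¬ J ≤ m := by
    -- the product of the other maximal ideals kills `m`
    intro hle
    have hfin : {p : Ideal B | p.IsMaximal}.Finite := IsArtinianRing.setOfPred_isMaximal_finite B
    have hex : ∀ p ∈ hfin.toFinset.erase m, ∃ s ∈ p, s ∉ m := fun p hp => by
      by_contra hcon
      push Not at hcon
      simp only [Finset.mem_erase, Set.Finite.mem_toFinset, Set.mem_ofPred_eq] at hp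
      exact hp.1 (hp.2.eq_of_le hm.ne_top hcon)
    choose! s hs hs' using hex
    have hmem : ∏ p ∈ hfin.toFinset.erase m, s p ∈ J := by
      refine Ideal.subset_span fun y hy => ?_
      refine IsNilpotent.eq_zero ?_
      rw [nilpotent_iff_mem_prime]
      intro p hp
      have hmax : p.IsMaximal := IsArtinianRing.isMaximal_of_isPrime p
      by_cases hpm : p = m
      · exact hpm ▸ p.mul_mem_left _ (hpm ▸ hy)
      · refine p.mul_mem_right _ ?_
        exact Ideal.mem_of_dvd _ (Finset.dvd_prod_of_mem s (Finset.mem_erase.2 ⟨hpm, hfin.mem_toFinset.2 hmax⟩))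
          (hs p (Finset.mem_erase.2 ⟨hpm, hfin.mem_toFinset.2 hmax⟩))
    exact (Finset.prod_induction s (fun t => t ∉ m) (fun a b ha hb h => (hm.isPrime.mem_or_mem h).elim ha hb)
      (fun h => hm.ne_top ((Ideal.eq_top_iff_one _).2 h)) hs') (hle hmem)
  obtain ⟨i, hi, j, hj, hij⟩ := Submodule.mem_sup.1
    ((hm.out.2 _ (left_lt_sup.2 hJm)) ▸ Submodule.mem_top : (1 : B) ∈ m ⊔ J)
  let φ : B →ₐ[F] (B ⧸ m) × (B ⧸ J) := (Ideal.Quotient.mkₐ F m).prod (Ideal.Quotient.mkₐ F J)
  have hφi : Function.Injective φ := by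
    rw [injective_iff_map_eq_zero]
    intro x hx
    have h1 : x ∈ m := Ideal.Quotient.eq_zero_iff_mem.1 (congr_arg Prod.fst hx)
    have h2 : x ∈ J := Ideal.Quotient.eq_zero_iff_mem.1 (congr_arg Prod.snd hx)
    calc x = x * i + x * j := by rw [← mul_add, hij, mul_one]
      _ = 0 := by rw [hann x h2 i hi, mul_comm x j, hann j hj x h1, add_zero]
  have hφs : Function.Surjective φ := by
    rintro ⟨p, q⟩
    obtain ⟨p, rfl⟩ := Ideal.Quotient.mk_surjective p
    obtain ⟨q, rfl⟩ := Ideal.Quotient.mk_surjective q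
    refine ⟨p * j + q * i, Prod.ext (Ideal.Quotient.eq.2 ?_) (Ideal.Quotient.eq.2 ?_)⟩
    · have : p * j + q * i - p = (q - p) * i := by linear_combination p * hij
      rw [this]; exact m.mul_mem_left _ hi
    · have : p * j + q * i - q = (p - q) * j := by linear_combination q * hij
      rw [this]; exact J.mul_mem_left _ hj
  let e := AlgEquiv.ofBijective φ ⟨hφi, hφs⟩
  let : Field (B ⧸ m) := Ideal.Quotient.field m
  have : Finite (B ⧸ m) := Module.finite_of_finite F
  constructor
  · obtain ⟨γ, hγ⟩ := FiniteField.norm_surjective F (B ⧸ m) c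
    refine ⟨e.symm (γ, 1), ?_⟩
    rw [Algebra.norm_eq_of_algEquiv e.symm, norm_prod_algebra, map_one, mul_one, hγ]
  · obtain ⟨z, hz⟩ := Algebra.trace_surjective F (B ⧸ m) c
    refine ⟨e.symm (z, 0), ?_⟩
    rw [Algebra.trace_eq_of_algEquiv e.symm, trace_prod_algebra, map_zero, add_zero, hz]

end Groth.Agent.NormPlace

namespace Groth.Agent.NormPlace

open IsLocalRing

/-- In a finite free algebra which is unramified in the sense that `πB` is radical, units are norms modulo every
power of `π`. -/
theorem exists_norm_congr {A : Type u} {B : Type v} [CommRing A] [IsLocalRing A] [CommRing B] [Algebra A B]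
    [Module.Free A B] [Module.Finite A B] [Nontrivial B] (π : A)
    (hπ : maximalIdeal A = Ideal.span {π}) [Finite (ResidueField A)]
    (hred : ∀ (y : B) (m : ℕ), algebraMap A B π ∣ y ^ m → algebraMap A B π ∣ y) (c : A) (hc : IsUnit c) :
    ∀ n : ℕ, ∃ x : B, π ^ n ∣ Algebra.norm A x - c := by
  classical
  let F := ResidueField A
  let b := Module.Free.chooseBasis A B
  let bF := b.baseChange F
  have hsurj : Function.Surjective (Algebra.TensorProduct.includeRight : B →ₐ[A] F ⊗[A] B) :=
    Algebra.TensorProduct.includeRight_surjective B IsLocalRing.residue_surjective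
  have hnorm : ∀ z : B, Algebra.norm F ((1 : F) ⊗ₜ[A] z) = algebraMap A F (Algebra.norm A z) := fun z => by
    rw [Algebra.norm_eq_matrix_det bF, Algebra.norm_eq_matrix_det b, RingHom.map_det]
    congr 1
    ext i j
    rw [RingHom.mapMatrix_apply, Matrix.map_apply, Algebra.leftMulMatrix_eq_repr_mul,
      Algebra.leftMulMatrix_eq_repr_mul, Module.Basis.baseChange_apply, Algebra.TensorProduct.tmul_mul_tmul, one_mul,
      Module.Basis.baseChange_repr_tmul, Algebra.smul_def, mul_one]
  have htrace : ∀ z : B, Algebra.trace F (F ⊗[A] B) ((1 : F) ⊗ₜ[A] z) = algebraMap A F (Algebra.trace A B z) := fun z => by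
    rw [Algebra.trace_eq_matrix_trace bF, Algebra.trace_eq_matrix_trace b, Matrix.trace, Matrix.trace, map_sum]
    refine Finset.sum_congr rfl fun i _ => ?_
    rw [Matrix.diag_apply, Matrix.diag_apply, Algebra.leftMulMatrix_eq_repr_mul,
      Algebra.leftMulMatrix_eq_repr_mul, Module.Basis.baseChange_apply, Algebra.TensorProduct.tmul_mul_tmul, one_mul,
      Module.Basis.baseChange_repr_tmul, Algebra.smul_def, mul_one]
  have hzero : ∀ z : B, (1 : F) ⊗ₜ[A] z = 0 ↔ algebraMap A B π ∣ z := fun z => by
    constructor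
    · intro h
      have hcoord : ∀ i, π ∣ b.repr z i := fun i => by
        have h1 := congr_arg (fun w => bF.repr w i) h
        simp only [bF, Module.Basis.baseChange_repr_tmul, map_zero, Finsupp.zero_apply, Algebra.smul_def, mul_one] at h1
        rw [← Ideal.mem_span_singleton, ← hπ]
        exact Ideal.Quotient.eq_zero_iff_mem.1 h1
      choose q hq using hcoord
      refine ⟨∑ i, q i • b i, ?_⟩
      conv_lhs => rw [← b.sum_repr z]
      rw [Finset.mul_sum]
      exact Finset.sum_congr rfl fun i _ => by rw [hq i, mul_smul, Algebra.smul_def]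
    · rintro ⟨w, rfl⟩
      rw [← Algebra.smul_def, TensorProduct.tmul_smul, TensorProduct.smul_tmul',
        show π • (1 : F) = 0 by
          rw [Algebra.smul_def, mul_one]
          exact Ideal.Quotient.eq_zero_iff_mem.2 (hπ ▸ Ideal.mem_span_singleton_self π),
        TensorProduct.zero_tmul]
  have : IsReduced (F ⊗[A] B) := by
    refine ⟨fun w hw => ?_⟩
    obtain ⟨z, rfl⟩ := hsurj w
    obtain ⟨m, hm⟩ := hw
    simp only [Algebra.TensorProduct.includeRight_apply, Algebra.TensorProduct.tmul_pow, one_pow] at hm ⊢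
    exact (hzero z).2 (hred z m ((hzero _).1 hm))
  have hne : Nonempty (Module.Free.ChooseBasisIndex A B) := by
    by_contra hempty
    rw [not_nonempty_iff] at hempty
    obtain ⟨x, y, hxy⟩ := exists_pair_ne B
    exact hxy (b.repr.injective (Finsupp.ext fun i => hempty.elim i))
  have : Nontrivial (F ⊗[A] B) := bF.repr.toEquiv.nontrivial
  have hFD : FiniteDimensional F (F ⊗[A] B) := Module.Finite.of_basis bF
  have hres : ∀ a : A, algebraMap A F a = 0 ↔ π ∣ a := fun a => by
    rw [← Ideal.mem_span_singleton, ← hπ]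
    exact Ideal.Quotient.eq_zero_iff_mem
  obtain ⟨hN, -⟩ := surjective_of_reduced (B := F ⊗[A] B) (algebraMap A F c)
    (fun h => (IsLocalRing.notMem_maximalIdeal.2 hc) (hπ ▸ Ideal.mem_span_singleton.2 ((hres c).1 h)))
  obtain ⟨-, hT⟩ := surjective_of_reduced (B := F ⊗[A] B) (1 : F) one_ne_zero
  obtain ⟨w, hw⟩ := hN
  obtain ⟨x₁, rfl⟩ := hsurj w
  obtain ⟨w, hw'⟩ := hT
  obtain ⟨z₀, rfl⟩ := hsurj w
  simp only [Algebra.TensorProduct.includeRight_apply, hnorm, htrace] at hw hw'
  have hx₁ : π ∣ Algebra.norm A x₁ - c := (hres _).1 (by rw [map_sub, hw, sub_self])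
  obtain ⟨q, hq⟩ : π ∣ Algebra.trace A B z₀ - 1 := (hres _).1 (by rw [map_sub, hw', map_one, sub_self])
  intro n
  induction n with
  | zero => exact ⟨1, by simp⟩
  | succ n ih =>
    rcases Nat.eq_zero_or_pos n with rfl | hn
    · exact ⟨x₁, by simpa using hx₁⟩
    obtain ⟨x, r, hr⟩ := ih
    have hu : IsUnit (Algebra.norm A x) := by
      rw [← IsLocalRing.notMem_maximalIdeal, hπ, Ideal.mem_span_singleton]
      intro h
      refine (IsLocalRing.notMem_maximalIdeal.2 hc) ?_
      rw [hπ, Ideal.mem_span_singleton, show c = Algebra.norm A x - π ^ n * r by rw [← hr]; ring]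
      exact dvd_sub h (dvd_mul_of_dvd_left (dvd_pow_self π (by omega)) r)
    obtain ⟨u, hu'⟩ := hu
    obtain ⟨s, hs⟩ := Algebra.norm_one_add_smul (π ^ n) ((-r * ↑u⁻¹) • z₀)
    refine ⟨x * (1 + π ^ n • ((-r * ↑u⁻¹) • z₀)), ?_⟩
    rw [map_mul, hs, map_smul, smul_eq_mul]
    obtain ⟨m, rfl⟩ : ∃ m, n = m + 1 := ⟨n - 1, by omega⟩
    refine ⟨-r * q + Algebra.norm A x * s * π ^ m, ?_⟩
    rw [← hu'] at hr ⊢
    have hinv : (u : A) * ↑u⁻¹ = 1 := u.mul_inv
    linear_combination hr + (-r * π ^ (m + 1) * (↑u * ↑u⁻¹)) * hq + (-r * π ^ (m + 1) * (1 + π * q)) * hinv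

end Groth.Agent.NormPlace
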