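import Groth.Agent.NormPlace.Local
import Groth.Agent.NormPlace.Exists

/-!
# Exact norms of units over an unramified place in the tensor algebra
-/

set_option autoImplicit false

noncomputable section

open NumberField IsDedekindDomain
open scoped TensorProduct Topology

universe u

namespace Groth.Agent.NormPlace

/-- Near `1` every element of a finite-dimensional algebra over a complete field is an `m`-th power. -/
theorem exists_root_near_one {K A : Type u} [NontriviallyNormedField K] [CompleteSpace K] [CommRing A] [Algebra K A]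
    [FiniteDimensional K A] {d : ℕ} (e : A ≃ₗ[K] (Fin d → K)) (m : ℕ) (hm : (m : K) ≠ 0) :
    ∃ ε : ℝ, 0 < ε ∧ ∀ a : A, (∀ j, ‖e a j - e 1 j‖ < ε) → ∃ r : A, r ^ m = a := by
  classical
  let E := Fin d → K
  let μ₀ : E →ₗ[K] E →ₗ[K] E :=
    LinearMap.mk₂ K (fun x y => e (e.symm x * e.symm y))
      (fun x x' y => by rw [map_add, add_mul, map_add])
      (fun c x y => by rw [map_smul, smul_mul_assoc, map_smul])
      (fun x y y' => by rw [map_add, mul_add, map_add])
      (fun c x y => by rw [map_smul, mul_smul_comm, map_smul])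
  let μ : E →L[K] E →L[K] E := LinearMap.toContinuousLinearMap
    ((LinearMap.toContinuousLinearMap (𝕜 := K) (E := E) (F' := E)).toLinearMap ∘ₗ μ₀)
  have hμ : ∀ x y, μ x y = e (e.symm x * e.symm y) := fun x y => rfl
  let P : ℕ → E → E := fun j x => e ((e.symm x) ^ j)
  have hP : ∀ j : ℕ, HasStrictFDerivAt (P j) ((j : K) • ContinuousLinearMap.id K E) (e 1) := by
    intro j
    induction j with
    | zero =>
      have hP0 : P 0 = fun _ => e 1 := funext fun x => by simp [P]
      rw [hP0]
      exact (hasStrictFDerivAt_const (𝕜 := K) (e 1) (e 1)).congr_fderiv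
        (ContinuousLinearMap.ext fun x => by simp)
    | succ j ih =>
      have h := μ.hasStrictFDerivAt_of_bilinear ih (hasStrictFDerivAt_id (e 1))
      have hfun : P (j + 1) = fun x => μ (P j x) (id x) := funext fun x => by
        simp [P, hμ, pow_succ]
      rw [hfun]
      refine h.congr_fderiv ?_
      ext x i
      simp [P, hμ, add_smul, mul_comm, ContinuousLinearMap.id_apply]
      rw [show (ContinuousLinearMap.id K (Fin d → K)) x = x from rfl]
      exact add_comm _ _
  have hsurj : ((m : K) • ContinuousLinearMap.id K E).range = ⊤ := by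
    rw [LinearMap.range_eq_top]
    intro y
    exact ⟨(m : K)⁻¹ • y, by simp [smul_smul, hm]⟩
  have hmap := (hP m).map_nhds_eq_of_surj hsurj
  have hmem : Set.range (P m) ∈ 𝓝 (P m (e 1)) := hmap ▸ Filter.mem_map.2 (Filter.univ_mem' fun x => ⟨x, rfl⟩)
  rw [show P m (e 1) = e 1 by simp [P]] at hmem
  obtain ⟨ε, hε, hball⟩ := Metric.mem_nhds_iff.1 hmem
  refine ⟨ε, hε, fun a ha => ?_⟩
  obtain ⟨x, hx⟩ := hball (show e a ∈ Metric.ball (e 1) ε by
    rw [Metric.mem_ball, dist_pi_lt_iff hε]
    exact fun j => by rw [dist_eq_norm]; exact ha j)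
  exact ⟨e.symm x, e.injective hx⟩

variable {k F L : Type u} [Field k] [NumberField k] [Field F] [NumberField F] [Field L] [NumberField L]
  [Algebra k F] [Algebra k L] [Algebra F L] [IsScalarTower k F L]

/-- An element which is a unit at the places over `v` is a norm at `v` if these places are unramified in `L`. -/
theorem exists_unit_norm_tensor (v : HeightOneSpectrum (NumberField.RingOfIntegers k))
    (hram : ∀ W : HeightOneSpectrum (NumberField.RingOfIntegers F), below k W = v →
      ∀ Q : HeightOneSpectrum (NumberField.RingOfIntegers L), below F Q = W →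
        Q.asIdeal.ramificationIdx (NumberField.RingOfIntegers F) = 1)
    (c : F) (hc : ∀ W : HeightOneSpectrum (NumberField.RingOfIntegers F), below k W = v → W.valuation F c = 1) :
    letI := (Algebra.TensorProduct.map (AlgHom.id k (v.adicCompletion k))
      (IsScalarTower.toAlgHom k F L)).toRingHom.toAlgebra
    ∃ x : (v.adicCompletion k) ⊗[k] L, IsUnit x ∧
      Algebra.norm ((v.adicCompletion k) ⊗[k] F) x = (1 : v.adicCompletion k) ⊗ₜ[k] c := by
  classical
  let K := v.adicCompletion k
  let : Algebra (K ⊗[k] F) (K ⊗[k] L) :=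
    (Algebra.TensorProduct.map (AlgHom.id k K) (IsScalarTower.toAlgHom k F L)).toRingHom.toAlgebra
  have : FiniteDimensional k F := Module.Finite.of_restrictScalars_finite ℚ k F
  have : FiniteDimensional k L := Module.Finite.of_restrictScalars_finite ℚ k L
  have : FiniteDimensional F L := Module.Finite.of_restrictScalars_finite ℚ F L
  obtain ⟨bA, hnorm⟩ := exists_tensor_basis (k := k) (F := F) (L := L) K
  obtain ⟨π, hπ⟩ := v.valuation_exists_uniformizer k
  have hπ0 : π ≠ 0 := fun h => by simp [h] at hπ; exact WithZero.exp_ne_zero hπ.symm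
  have hcoe : ∀ z : k, Valued.v (algebraMap k K z) = v.valuation k z := fun z =>
    HeightOneSpectrum.adicCompletion.valued_coe (K := k) (v := v) z
  have hπ1 : ‖algebraMap k K π‖ < 1 := Valued.toNormedField.norm_lt_one_iff.2 (by
    rw [hcoe, hπ, ← WithZero.exp_zero]; exact WithZero.exp_lt_exp.2 (by norm_num))
  let : NontriviallyNormedField K :=
    { (inferInstance : NormedField K) with
      non_trivial := ⟨(algebraMap k K π)⁻¹, by
        rw [norm_inv]; exact one_lt_inv₀ (norm_pos_iff.2 (by simpa using hπ0)) |>.2 hπ1⟩ }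
  have : CharZero K := charZero_of_injective_algebraMap (algebraMap k K).injective
  let B := Module.finBasis k F
  let m := Module.finrank F L
  have hm : (m : K) ≠ 0 := Nat.cast_ne_zero.2 (Module.finrank_pos (R := F) (M := L)).ne'
  obtain ⟨ε, hε, hroot⟩ := exists_root_near_one (B.baseChange K).equivFun m hm
  obtain ⟨l, hl⟩ := exists_pow_lt_of_lt_one hε hπ1
  obtain ⟨r₀, hr0, hr1, hr⟩ := exists_common_radius (n := 1) (kf := fun _ => F) (fun _ => (1 : F)) v
    (fun (j : Fin (Module.finrank k F)) _ => B.coord j) (π ^ l) (pow_ne_zero _ hπ0)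
  -- norms close to `c` at every place above `v`
  have hlocal : ∀ W : HeightOneSpectrum (NumberField.RingOfIntegers F), ∃ y : L, below k W = v →
      W.valuation F (Algebra.norm F y - c) ≤ W.valuation F (algebraMap k F r₀) := fun W => by
    by_cases hW : below k W = v
    · obtain ⟨y, hy⟩ := exists_unit_norm (L := L) W (hram W hW) c (hc W hW) (algebraMap k F r₀) (by simpa using hr0)
      exact ⟨y, fun _ => hy⟩
    · exact ⟨1, fun h => absurd h hW⟩
  choose y hy using hlocal
  let Bl := Module.finBasis F L
  let S := (finite_above (K := F) v).toFinset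
  obtain ⟨W₀, hW₀, -⟩ := exists_split_place (k := F) (L := F) S
  have hopen : ∀ W ∈ S, IsOpen {z : Fin (Module.finrank F L) → W.adicCompletion F |
      ‖nm Bl _ z - algebraMap F _ (Algebra.norm F (y W))‖ < ‖algebraMap F (W.adicCompletion F) (algebraMap k F r₀)‖} :=
    fun W _ => isOpen_lt ((continuous_nm Bl _).sub continuous_const).norm continuous_const
  have hcen : ∀ W ∈ S, (fun i => algebraMap F (W.adicCompletion F) (Bl.repr (y W) i)) ∈
      {z : Fin (Module.finrank F L) → W.adicCompletion F |
      ‖nm Bl _ z - algebraMap F _ (Algebra.norm F (y W))‖ < ‖algebraMap F (W.adicCompletion F) (algebraMap k F r₀)‖} :=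
    fun W _ => by
      simp only [Set.mem_ofPred_eq, nm_map, Bl.sum_repr, sub_self, norm_zero, norm_pos_iff]
      simpa using hr0
  choose! O hO hOsub using fun W hW => isOpen_pi_iff'.1 (hopen W hW) _ (hcen W hW)
  choose z hz1 hz2 hz3 using fun i => StrongApprox.strong_approx W₀ S hW₀ (fun W => O W i)
    (fun W hW => ⟨(hO W hW i).1, _, (hO W hW i).2⟩) Set.univ isOpen_univ Set.univ_nonempty
  let x := ∑ i, z i • Bl i
  have hx : ∀ W : HeightOneSpectrum (NumberField.RingOfIntegers F), below k W = v →
      W.valuation F (Algebra.norm F x - c) ≤ W.valuation F (algebraMap k F r₀) := fun W hW => by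
    have hmem : W ∈ S := (Set.Finite.mem_toFinset _).2 hW
    have h := hOsub W hmem (fun i _ => hz1 i W hmem : (fun i => algebraMap F (W.adicCompletion F) (z i)) ∈ _)
    simp only [Set.mem_ofPred_eq, nm_map, ← map_sub] at h
    have h' := Valued.toNormedField.norm_lt_iff.1 h
    rw [show ∀ t, Valued.v (algebraMap F (W.adicCompletion F) t) = W.valuation F t from
      fun t => HeightOneSpectrum.adicCompletion.valued_coe (K := F) (v := W) t,
      show Valued.v (algebraMap F (W.adicCompletion F) (algebraMap k F r₀)) = W.valuation F (algebraMap k F r₀) from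
        HeightOneSpectrum.adicCompletion.valued_coe (K := F) (v := W) _] at h'
    rw [← sub_add_sub_cancel (Algebra.norm F x) (Algebra.norm F (y W)) c]
    exact Valuation.map_add_le _ h'.le (hy W hW)
  have hx1 : ∀ W : HeightOneSpectrum (NumberField.RingOfIntegers F), below k W = v →
      W.valuation F (Algebra.norm F x) = 1 := fun W hW => by
    have hlt := (hx W hW).trans_lt ((valuation_algebraMap_lt_one W r₀).2 (hW ▸ hr1))
    rw [Valuation.map_eq_of_sub_lt _ (by rw [hc W hW]; exact hlt), hc W hW]
  obtain ⟨W₁, hW₁⟩ := exists_above (K := F) v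
  have hN0 : Algebra.norm F x ≠ 0 := fun h => by have := hx1 W₁ hW₁; simp [h] at this
  have hx0 : x ≠ 0 := fun h => hN0 (by rw [h, Algebra.norm_zero])
  let q : F := c / Algebra.norm F x
  obtain ⟨r, hrm⟩ := hroot ((1 : K) ⊗ₜ[k] q) fun j => by
    have h := hr (fun _ => q - 1) (fun _ W hW => by
      rw [show q - 1 = -(Algebra.norm F x - c) / Algebra.norm F x by simp only [q]; field_simp; ring, map_div₀,
        Valuation.map_neg, hx1 W hW, div_one]
      exact hx W hW) j 0
    rw [div_one, map_sub (B.coord j)] at h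
    rw [Module.Basis.equivFun_apply, Module.Basis.equivFun_apply, Algebra.TensorProduct.one_def,
      Module.Basis.baseChange_repr_tmul, Module.Basis.baseChange_repr_tmul, ← Algebra.algebraMap_eq_smul_one,
      ← Algebra.algebraMap_eq_smul_one, ← map_sub]
    refine lt_of_le_of_lt (Valued.toNormedField.norm_le_iff.2 ?_) (by rwa [← norm_pow, ← map_pow] at hl)
    rw [hcoe, hcoe]
    exact h
  refine ⟨(1 : K) ⊗ₜ[k] x * algebraMap _ _ r, ?_, ?_⟩
  · have hq : IsUnit ((1 : K) ⊗ₜ[k] q) := IsUnit.of_mul_eq_one (a := (1 : K) ⊗ₜ[k] q)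
      ((1 : K) ⊗ₜ[k] q⁻¹) (by
        rw [Algebra.TensorProduct.tmul_mul_tmul, one_mul, mul_inv_cancel₀, Algebra.TensorProduct.one_def]
        exact div_ne_zero (fun h => by simpa [h] using hc W₁ hW₁) hN0)
    refine IsUnit.mul ?_ (IsUnit.map _ ?_)
    · exact (isUnit_iff_ne_zero.2 hx0).map (Algebra.TensorProduct.includeRight : L →ₐ[k] K ⊗[k] L)
    · exact (isUnit_pow_iff (Module.finrank_pos (R := F) (M := L)).ne').1 (hrm ▸ hq)
  · rw [map_mul, hnorm, Algebra.norm_algebraMap_of_basis bA, Fintype.card_fin, hrm,
      Algebra.TensorProduct.tmul_mul_tmul, one_mul, mul_div_cancel₀ _ hN0]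

end Groth.Agent.NormPlace
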